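import Mathlib

/-!
# Primitive elements in characteristic zero, and lattices in the polynomial ring
-/

set_option autoImplicit false

universe u

noncomputable section

open Polynomial Module
open scoped TensorProduct

namespace GrothLib.GaModel15

/-- A nonzero "primitive" element of an algebra over a field of characteristic zero is transcendental. -/
theorem aeval_injective_of_primitive {k : Type u} [Field k] [CharZero k] {B : Type u} [CommRing B] [Algebra k B]
    {s : B} (hs : s ≠ 0)
    (law : ∀ p : k[X], aeval s p = 0 → aeval (s ⊗ₜ[k] (1 : B) + (1 : B) ⊗ₜ[k] s) p = 0) :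
    Function.Injective (aeval s : k[X] → B) := by
  haveI : Nontrivial B := ⟨s, 0, hs⟩
  haveI : Nontrivial (B ⊗[k] B) := inferInstance
  rw [injective_iff_map_eq_zero]
  intro p hp
  by_contra hp0
  have halg : IsAlgebraic k s := ⟨p, hp0, hp⟩
  have hint : IsIntegral k s := halg.isIntegral
  set q := minpoly k s with hq
  have hqm : q.Monic := minpoly.monic hint
  have hqs : aeval s q = 0 := minpoly.aeval k s
  have hlaw := law q hqs
  have hd0 : 0 < q.natDegree := minpoly.natDegree_pos hint
  rcases (Nat.lt_or_ge q.natDegree 2) with hd | hd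
  · have hd1 : q.natDegree = 1 := by omega
    have hqX : q = X + C (q.coeff 0) := hqm.eq_X_add_C hd1
    set c := q.coeff 0
    rw [hqX] at hqs hlaw
    simp only [map_add, aeval_X, aeval_C] at hqs hlaw
    have hsc : s = algebraMap k B (-c) := by rw [map_neg]; exact eq_neg_of_add_eq_zero_left hqs
    have h2 : algebraMap k (B ⊗[k] B) (-c) = 0 := by
      have hl : s ⊗ₜ[k] (1 : B) = algebraMap k (B ⊗[k] B) (-c) := by
        rw [hsc]; exact (Algebra.TensorProduct.algebraMap_apply (-c)).symm
      have hr : (1 : B) ⊗ₜ[k] s = algebraMap k (B ⊗[k] B) (-c) := by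
        rw [hsc]; exact (Algebra.TensorProduct.algebraMap_apply' (-c)).symm
      rw [hl, hr, ← map_add, ← map_add] at hlaw
      simpa using hlaw
    have : -c = 0 := (algebraMap k (B ⊗[k] B)).injective (h2.trans (map_zero _).symm)
    apply hs
    rw [hsc, this, map_zero]
  · obtain ⟨lam, hlam⟩ := LinearMap.exists_extend
      ((Finsupp.lapply (R := k) (M := k) (⟨1, by omega⟩ : Fin q.natDegree)).comp
        ((Basis.span (linearIndependent_pow (K := k) s)).repr.toLinearMap))
    have hlam1 : ∀ i : Fin q.natDegree, lam (s ^ (i : ℕ)) = if (i : ℕ) = 1 then 1 else 0 := by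
      intro i
      have h := LinearMap.congr_fun hlam (Basis.span (linearIndependent_pow (K := k) s) i)
      simp only [LinearMap.coe_comp, Function.comp_apply, LinearEquiv.coe_coe, Basis.repr_self,
        Submodule.coe_subtype, Basis.span_apply, Finsupp.lapply_apply, Finsupp.single_apply, Fin.ext_iff] at h
      simpa [Finsupp.single_apply, Fin.ext_iff, eq_comm] using h
    let L : B ⊗[k] B →ₗ[k] B := (TensorProduct.rid k B).toLinearMap ∘ₗ lam.lTensor B
    have hL : ∀ b c : B, L (b ⊗ₜ c) = lam c • b := fun b c => by simp [L]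
    have hexp : aeval (s ⊗ₜ[k] (1 : B) + (1 : B) ⊗ₜ[k] s) q =
        ∑ i ∈ Finset.range (q.natDegree + 1), (aeval s (hasseDeriv i q)) ⊗ₜ[k] (s ^ i) := by
      let q' := q.map (algebraMap k B)
      have hdeg : (taylor s q').natDegree = q.natDegree := by
        rw [natDegree_taylor, natDegree_map]
      have e : aeval (s ⊗ₜ[k] (1 : B) + (1 : B) ⊗ₜ[k] s) q = aeval ((1 : B) ⊗ₜ[k] s) (taylor s q') := by
        rw [taylor_apply, aeval_comp]
        simp only [map_add, aeval_X, aeval_C, q']
        rw [aeval_map_algebraMap, Algebra.TensorProduct.algebraMap_apply, add_comm]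
        rfl
      rw [e, aeval_eq_sum_range, hdeg]
      refine Finset.sum_congr rfl fun i _ => ?_
      rw [taylor_coeff, Algebra.TensorProduct.tmul_pow, one_pow, TensorProduct.smul_tmul']
      congr 1
      rw [smul_eq_mul, mul_one]
      have : hasseDeriv i q' = (hasseDeriv i q).map (algebraMap k B) := by
        ext j; simp [q', hasseDeriv_coeff]
      rw [this, eval_map_algebraMap]
    have hsum : ∑ i ∈ Finset.range (q.natDegree + 1), lam (s ^ i) • aeval s (hasseDeriv i q) = 0 := by
      have := congrArg L (hexp.symm.trans hlaw)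
      simpa [map_sum, hL] using this
    have hlow : ∑ i ∈ Finset.range q.natDegree, lam (s ^ i) • aeval s (hasseDeriv i q) =
        aeval s (derivative q) := by
      rw [Finset.sum_eq_single 1]
      · have := hlam1 ⟨1, by omega⟩
        simp only [if_true] at this
        rw [this, one_smul, hasseDeriv_one']
      · intro i hi hne
        have := hlam1 ⟨i, Finset.mem_range.mp hi⟩
        simp only [if_neg hne] at this
        rw [this, zero_smul]
      · intro h; exact absurd (Finset.mem_range.mpr (by omega)) h
    rw [Finset.sum_range_succ, hlow] at hsum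
    have htop : hasseDeriv q.natDegree q = 1 := by
      rw [hasseDeriv_natDegree_eq_C, hqm.leadingCoeff, map_one]
    rw [htop, map_one] at hsum
    set r := derivative q + C (lam (s ^ q.natDegree))
    have hr : aeval s r = 0 := by
      simp only [r, map_add, aeval_C]; rw [Algebra.algebraMap_eq_smul_one]; exact hsum
    have hrd : r.coeff (q.natDegree - 1) = (q.natDegree : k) := by
      rw [coeff_add, coeff_derivative, coeff_C, if_neg (by omega), add_zero,
        show q.natDegree - 1 + 1 = q.natDegree by omega, hqm.coeff_natDegree, one_mul]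
      rw [Nat.cast_sub (by omega)]; simp
    have hr0 : r ≠ 0 := by
      intro h; rw [h, coeff_zero] at hrd
      have : (q.natDegree : k) ≠ 0 := Nat.cast_ne_zero.mpr (by omega)
      exact this hrd.symm
    have hle := natDegree_le_natDegree (minpoly.degree_le_of_ne_zero k s hr0 hr)
    have hlt : r.natDegree < q.natDegree := by
      refine lt_of_le_of_lt (natDegree_add_le _ _) ?_
      rw [natDegree_C]
      have := natDegree_derivative_lt (p := q) (by omega)
      omega
    rw [← hq] at hle
    omega

section Lattice

variable {R : Type u} [CommRing R] [IsDomain R] [IsDiscreteValuationRing R]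
  {K : Type u} [Field K] [Algebra R K] [IsFractionRing R K]
  {A : Type u} [CommRing A] [Algebra R A] [IsNoetherianRing A]
  {B : Type u} [CommRing B] [Algebra A B] [Algebra K B] [Algebra R B] [IsScalarTower R A B] [IsScalarTower R K B]

/-- In a lattice of `K[v]` there is an element `y ∉ mA` proportional to `v`. -/
theorem exists_primitive_multiple (hinj : Function.Injective (algebraMap A B))
    (hsurj : ∀ z : B, ∃ (a : A) (r : R), r ≠ 0 ∧ z * algebraMap R B r = algebraMap A B a)
    (v : B) (hv : Function.Bijective (aeval v : K[X] → B)) (ev : A →ₐ[R] R) :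
    ∃ (y : A) (c : K), c ≠ 0 ∧ algebraMap A B y = algebraMap K B c * v ∧
      y ∉ (IsLocalRing.maximalIdeal R).map (algebraMap R A) := by
  haveI : IsDomain B := (RingEquiv.ofBijective (aeval v : K[X] →ₐ[K] B).toRingHom hv).symm.toMulEquiv.isDomain _
  haveI : IsDomain A := hinj.isDomain _
  have hRB : Function.Injective (algebraMap R B) := by
    rw [IsScalarTower.algebraMap_eq R K B]
    exact (algebraMap K B).injective.comp (IsFractionRing.injective R K)
  obtain ⟨ϖ, hϖ⟩ := IsDiscreteValuationRing.exists_irreducible R
  obtain ⟨a, r, hr, ha⟩ := hsurj v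
  have hv0 : v ≠ 0 := fun h => X_ne_zero (hv.injective (a₁ := (X : K[X])) (a₂ := 0) (by simp [h]))
  have ha0 : a ≠ 0 := fun h => mul_ne_zero hv0 ((map_ne_zero_iff _ hRB).mpr hr) (by rw [ha, h, map_zero])
  have hu : ¬ IsUnit (algebraMap R A ϖ) := fun h => hϖ.not_isUnit (by simpa using h.map ev)
  obtain ⟨n, y, hy, hay⟩ := WfDvdMonoid.max_power_factor' ha0 hu
  refine ⟨y, algebraMap R K r / algebraMap R K ϖ ^ n, ?_, ?_, ?_⟩
  · exact div_ne_zero ((map_ne_zero_iff _ (IsFractionRing.injective R K)).mpr hr)
      (pow_ne_zero _ ((map_ne_zero_iff _ (IsFractionRing.injective R K)).mpr hϖ.ne_zero))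
  · have hp : algebraMap R B ϖ ^ n ≠ 0 := pow_ne_zero _ ((map_ne_zero_iff _ hRB).mpr hϖ.ne_zero)
    apply mul_left_cancel₀ hp
    have e : algebraMap R B ϖ ^ n * algebraMap K B (algebraMap R K r / algebraMap R K ϖ ^ n) = algebraMap R B r := by
      rw [IsScalarTower.algebraMap_apply R K B, ← map_pow, ← map_mul, mul_div_cancel₀ _
        (pow_ne_zero _ ((map_ne_zero_iff _ (IsFractionRing.injective R K)).mpr hϖ.ne_zero)),
        ← IsScalarTower.algebraMap_apply R K B]
    rw [← mul_assoc, e, mul_comm (algebraMap R B r), ha, hay, map_mul, map_pow, ← IsScalarTower.algebraMap_apply R A B]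
  · rw [hϖ.maximalIdeal_eq, Ideal.map_span, Set.image_singleton, Ideal.mem_span_singleton]
    exact hy

/-- If polynomials in `y` lie in `mA` only for the obvious reason, then `A = R[y]`. -/
theorem bijective_aeval (hinj : Function.Injective (algebraMap A B))
    (v : B) (hv : Function.Bijective (aeval v : K[X] → B))
    (y : A) (c : K) (hc : c ≠ 0) (hy : algebraMap A B y = algebraMap K B c * v)
    (hmod : ∀ P : R[X], aeval y P ∈ (IsLocalRing.maximalIdeal R).map (algebraMap R A) →
      ∀ i, P.coeff i ∈ IsLocalRing.maximalIdeal R) :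
    Function.Bijective (aeval y : R[X] → A) := by
  haveI : IsDomain B := (RingEquiv.ofBijective (aeval v : K[X] →ₐ[K] B).toRingHom hv).symm.toMulEquiv.isDomain _
  haveI : IsDomain A := hinj.isDomain _
  have hRB : Function.Injective (algebraMap R B) := by
    rw [IsScalarTower.algebraMap_eq R K B]
    exact (algebraMap K B).injective.comp (IsFractionRing.injective R K)
  have hRA : Function.Injective (algebraMap R A) := by
    rw [IsScalarTower.algebraMap_eq R A B] at hRB
    exact Function.Injective.of_comp (f := algebraMap A B) hRB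
  have hB : ∀ P : R[X], algebraMap A B (aeval y P) = aeval v ((P.map (algebraMap R K)).comp (C c * X)) := by
    intro P
    rw [← aeval_algebraMap_apply, hy, aeval_comp, aeval_map_algebraMap]
    simp
  have hcomp : ∀ Q : K[X], ((Q.comp (C c⁻¹ * X)).comp (C c * X)) = Q := by
    intro Q
    rw [comp_assoc, mul_comp, C_comp, X_comp, ← mul_assoc, ← C_mul, inv_mul_cancel₀ hc, C_1, one_mul, comp_X]
  constructor
  · rw [injective_iff_map_eq_zero]
    intro P hP
    have h1 := hB P
    rw [hP, map_zero] at h1
    have h2 := hv.injective (a₁ := (0 : K[X])) (a₂ := (P.map (algebraMap R K)).comp (C c * X)) (by simpa using h1)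
    rcases comp_eq_zero_iff.mp h2.symm with h | ⟨-, h⟩
    · exact (Polynomial.map_eq_zero_iff (IsFractionRing.injective R K)).mp h
    · exfalso
      have := congrArg (fun q : K[X] => q.coeff 1) h
      simp at this
      exact hc this
  · intro a
    obtain ⟨Q, hQ⟩ := hv.surjective (algebraMap A B a)
    obtain ⟨b, hb, hP⟩ := IsLocalization.integerNormalization_spec (nonZeroDivisors R) (Q.comp (C c⁻¹ * X))
    set P := IsLocalization.integerNormalization (nonZeroDivisors R) (Q.comp (C c⁻¹ * X))
    have hba : aeval y P = algebraMap R A b * a := by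
      apply hinj
      rw [hB, hP, ← IsScalarTower.algebraMap_smul K b, smul_comp, map_smul, hcomp, hQ, map_mul, ← IsScalarTower.algebraMap_apply R A B, Algebra.smul_def, ← IsScalarTower.algebraMap_apply R K B]
    have hb0 : b ≠ 0 := nonZeroDivisors.ne_zero hb
    obtain ⟨ϖ, hϖ⟩ := IsDiscreteValuationRing.exists_irreducible R
    obtain ⟨n, u, hbu⟩ := IsDiscreteValuationRing.eq_unit_mul_pow_irreducible hb0 hϖ
    have key : ∀ (n : ℕ) (P : R[X]) (a : A), aeval y P = algebraMap R A ϖ ^ n * a → ∃ P' : R[X], aeval y P' = a := by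
      intro n
      induction n with
      | zero => exact fun P a h => ⟨P, by simpa using h⟩
      | succ n ih =>
        intro P a h
        have hmem := hmod P (by
          rw [h, hϖ.maximalIdeal_eq, Ideal.map_span, Set.image_singleton, Ideal.mem_span_singleton, pow_succ']
          exact Dvd.intro _ (mul_assoc _ _ _).symm)
        have hdvd : C ϖ ∣ P := C_dvd_iff_dvd_coeff _ _ |>.mpr fun i => by
          have := hmem i
          rwa [hϖ.maximalIdeal_eq, Ideal.mem_span_singleton] at this
        obtain ⟨P', rfl⟩ := hdvd
        refine ih P' a ?_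
        rw [map_mul, aeval_C, pow_succ', mul_assoc] at h
        exact mul_left_cancel₀ ((map_ne_zero_iff _ hRA).mpr hϖ.ne_zero) h
    obtain ⟨P', hP'⟩ := key n (C (↑u⁻¹ : R) * P) a (by
      rw [map_mul, aeval_C, hba, ← mul_assoc, ← map_mul, hbu, ← mul_assoc, Units.inv_mul, one_mul, map_pow])
    exact ⟨P', hP'⟩

end Lattice

end GrothLib.GaModel15
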