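import Groth.Agent.Lib.GaModel15.Algebra
import Groth.Agent.Lib.RedSmooth.Basic

/-!
# The scale of a model of the additive group near the unit section
-/

set_option autoImplicit false
set_option linter.all false

universe u

noncomputable section

open Polynomial
open scoped TensorProduct

namespace GrothLib.GaModel15

theorem isReduced_quotient_map (R A : Type u) [CommRing R] [CommRing A] [Algebra R A] [Algebra.Smooth R A]
    (m : Ideal R) [m.IsMaximal] : IsReduced (A ⧸ m.map (algebraMap R A)) := by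
  letI : Field (R ⧸ m) := Ideal.Quotient.field m
  haveI : IsReduced ((R ⧸ m) ⊗[R] A) := RedSmooth.isReduced_of_algebra_smooth (R ⧸ m) _
  let e : (A ⧸ m.map (algebraMap R A)) →+* ((R ⧸ m) ⊗[R] A) :=
    (Algebra.TensorProduct.comm R A (R ⧸ m)).toRingEquiv.toRingHom.comp
      (Algebra.TensorProduct.quotIdealMapEquivTensorQuot A m).toRingEquiv.toRingHom
  exact isReduced_of_injective e ((Algebra.TensorProduct.comm R A (R ⧸ m)).injective.comp
    (Algebra.TensorProduct.quotIdealMapEquivTensorQuot A m).injective)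

variable {R : Type u} [CommRing R] [IsDomain R] [IsDiscreteValuationRing R]
  {A : Type u} [CommRing A] [IsDomain A] [Algebra R A] [IsNoetherianRing A]

/-- Near the unit section, functions are polynomials in a coordinate `y / ϖ ^ e`. -/
theorem exists_scale (ev : A →ₐ[R] R) (hred : IsReduced (A ⧸ (IsLocalRing.maximalIdeal R).map (algebraMap R A)))
    (hRA : Function.Injective (algebraMap R A)) (y : A) (hy : ev y = 0) (hy0 : y ≠ 0)
    (hgen : ∀ a : A, ∃ (P : R[X]) (b : R), b ≠ 0 ∧ algebraMap R A b * a = aeval y P) :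
    ∃ (s : R) (h c : A), s ≠ 0 ∧ IsUnit (ev h) ∧ y * h = algebraMap R A s * c ∧
      ∀ (a : A) (b : R) (P : R[X]), b ≠ 0 → algebraMap R A b * a = aeval y P →
        ∃ Q : R[X], C b * Q = P.comp (C s * X) := by
  let p : Ideal A := (IsLocalRing.maximalIdeal R).comap (ev : A →+* R)
  haveI : p.IsPrime := Ideal.IsPrime.comap _
  let O := Localization.AtPrime p
  let f : A →+* O := algebraMap A O
  have hf : Function.Injective f := IsLocalization.injective O p.primeCompl_le_nonZeroDivisors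
  haveI : IsDomain O := IsLocalization.isDomain_localization p.primeCompl_le_nonZeroDivisors
  obtain ⟨ϖ, hϖ⟩ := IsDiscreteValuationRing.exists_irreducible R
  have hm : IsLocalRing.maximalIdeal R = Ideal.span {ϖ} := hϖ.maximalIdeal_eq
  have hevp : ∀ z : A, z ∈ p ↔ ev z ∈ IsLocalRing.maximalIdeal R := fun z => Iff.rfl
  have hπ : f (algebraMap R A ϖ) ∈ IsLocalRing.maximalIdeal O := by
    rw [← IsLocalization.AtPrime.map_eq_maximalIdeal p O]
    refine Ideal.mem_map_of_mem _ ((hevp _).mpr ?_)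
    rw [AlgHom.commutes, hm]
    exact Ideal.mem_span_singleton_self ϖ
  obtain ⟨n, w, hw, hyw⟩ := WfDvdMonoid.max_power_factor' ((map_ne_zero_iff f hf).mpr hy0)
    ((IsLocalRing.mem_maximalIdeal _).mp hπ)
  obtain ⟨⟨c, ⟨h, hh⟩⟩, hch⟩ := IsLocalization.surj p.primeCompl w
  have hevh : IsUnit (ev h) := by
    by_contra hu
    exact hh ((hevp h).mpr ((IsLocalRing.mem_maximalIdeal _).mpr hu))
  have heq : y * h = algebraMap R A (ϖ ^ n) * c := by
    apply hf
    rw [map_mul, map_mul, map_pow, map_pow, hyw, mul_assoc]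
    exact congrArg _ hch
  have hc : c ∈ p := by
    rw [hevp]
    have := congrArg ev heq
    rw [map_mul, map_mul, hy, zero_mul, AlgHom.commutes] at this
    rw [(mul_eq_zero.mp this.symm).resolve_left (pow_ne_zero n hϖ.ne_zero)]
    exact zero_mem _
  have hwm : w ∈ IsLocalRing.maximalIdeal O := by
    have hcm : f c ∈ IsLocalRing.maximalIdeal O := by
      rw [← IsLocalization.AtPrime.map_eq_maximalIdeal p O]
      exact Ideal.mem_map_of_mem _ hc
    have hwh : w * f h ∈ IsLocalRing.maximalIdeal O := hch ▸ hcm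
    exact ((IsLocalRing.maximalIdeal.isMaximal O).isPrime.mem_or_mem hwh).resolve_right
      fun hfh => (IsLocalRing.mem_maximalIdeal _).mp hfh (IsLocalization.map_units O ⟨h, hh⟩)
  let J : Ideal O := Ideal.span {f (algebraMap R A ϖ)}
  haveI : IsReduced (O ⧸ J) := by
    refine ⟨fun z ⟨k, hz⟩ => ?_⟩
    obtain ⟨z, rfl⟩ := Ideal.Quotient.mk_surjective z
    rw [← map_pow, Ideal.Quotient.eq_zero_iff_mem, Ideal.mem_span_singleton] at hz
    obtain ⟨d, hd⟩ := hz
    obtain ⟨⟨a, ⟨g, hg⟩⟩, ha⟩ := IsLocalization.surj p.primeCompl z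
    obtain ⟨⟨d', ⟨g', hg'⟩⟩, hd'⟩ := IsLocalization.surj p.primeCompl d
    have e : a ^ k * g' = algebraMap R A ϖ * d' * g ^ k := by
      apply hf
      rw [map_mul, map_mul, map_mul, map_pow, map_pow]
      show f a ^ k * f g' = f (algebraMap R A ϖ) * f d' * f g ^ k
      rw [show f a = z * f g from ha.symm, show f d' = d * f g' from hd'.symm, mul_pow, hd]
      ring
    let Jm := (IsLocalRing.maximalIdeal R).map (algebraMap R A)
    have hJm : Jm = Ideal.span {algebraMap R A ϖ} := by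
      show Ideal.map _ _ = _
      rw [hm, Ideal.map_span, Set.image_singleton]
    have hnil : IsNilpotent (Ideal.Quotient.mk Jm (a * g')) := by
      refine ⟨k + 1, ?_⟩
      rw [← map_pow, Ideal.Quotient.eq_zero_iff_mem, hJm, Ideal.mem_span_singleton]
      exact ⟨d' * g ^ k * a * g' ^ k, by linear_combination (a * g' ^ k) * e⟩
    have h0 := hnil.eq_zero
    rw [Ideal.Quotient.eq_zero_iff_mem, hJm, Ideal.mem_span_singleton] at h0
    obtain ⟨r, hr⟩ := h0
    rw [Ideal.Quotient.eq_zero_iff_mem, Ideal.mem_span_singleton]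
    have hu := (IsLocalization.map_units O ⟨g, hg⟩).mul (IsLocalization.map_units O ⟨g', hg'⟩)
    refine (hu.dvd_mul_right).mp ⟨f r, ?_⟩
    show z * (f g * f g') = _
    rw [← mul_assoc, show z * f g = f a from ha, ← map_mul, hr, map_mul]
  let σ : R →+* O ⧸ J := (Ideal.Quotient.mk J).comp (f.comp (algebraMap R A))
  let m := IsLocalRing.maximalIdeal R
  letI : Field (R ⧸ m) := Ideal.Quotient.field m
  let σk : R ⧸ m →+* O ⧸ J := Ideal.Quotient.lift m σ fun r hr => by
    show Ideal.Quotient.mk J (f (algebraMap R A r)) = 0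
    rw [show m = Ideal.span {ϖ} from hm, Ideal.mem_span_singleton] at hr
    obtain ⟨r', rfl⟩ := hr
    rw [Ideal.Quotient.eq_zero_iff_mem, map_mul, map_mul]
    exact Ideal.mul_mem_right _ _ (Ideal.mem_span_singleton_self _)
  have hJle : J ≤ IsLocalRing.maximalIdeal O := (Ideal.span_singleton_le_iff_mem _).mpr hπ
  haveI : Nontrivial (O ⧸ J) := Ideal.Quotient.nontrivial_iff.mpr fun h =>
    (IsLocalRing.maximalIdeal.isMaximal O).ne_top (top_le_iff.mp (h ▸ hJle))
  haveI : IsLocalRing (O ⧸ J) := .of_surjective' (Ideal.Quotient.mk J) Ideal.Quotient.mk_surjective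
  have hwJ : Ideal.Quotient.mk J w ≠ 0 := fun h =>
    hw (Ideal.mem_span_singleton.mp (Ideal.Quotient.eq_zero_iff_mem.mp h))
  have hwnu : ¬ IsUnit (Ideal.Quotient.mk J w) := fun h => by
    obtain ⟨v, hv⟩ := Ideal.Quotient.mk_surjective (↑h.unit⁻¹ : O ⧸ J)
    have h1 : Ideal.Quotient.mk J (w * v - 1) = 0 := by
      rw [map_sub, map_mul, hv, IsUnit.mul_val_inv, map_one, sub_self]
    have h2 := (IsLocalRing.maximalIdeal O).sub_mem ((IsLocalRing.maximalIdeal O).mul_mem_right v hwm)
      (hJle (Ideal.Quotient.eq_zero_iff_mem.mp h1))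
    rw [sub_sub_cancel] at h2
    exact (IsLocalRing.mem_maximalIdeal _).mp h2 isUnit_one
  have htr : ∀ P : R[X], eval₂ σ (Ideal.Quotient.mk J w) P = 0 → ∀ i, P.coeff i ∈ IsLocalRing.maximalIdeal R := by
    intro P hP i
    by_contra hi
    have hq0 : P.map (Ideal.Quotient.mk m) ≠ 0 := fun h => hi (by
      have := congrArg (fun q : (R ⧸ m)[X] => q.coeff i) h
      rw [coeff_map, coeff_zero] at this
      exact Ideal.Quotient.eq_zero_iff_mem.mp this)
    obtain ⟨q, hq, hnd⟩ := exists_eq_pow_rootMultiplicity_mul_and_not_dvd _ hq0 0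
    set v := rootMultiplicity 0 (P.map (Ideal.Quotient.mk m))
    rw [map_zero, sub_zero] at hq hnd
    have hz : eval₂ σk (Ideal.Quotient.mk J w) (P.map (Ideal.Quotient.mk m)) = 0 := by
      rw [eval₂_map, Ideal.Quotient.lift_comp_mk]
      exact hP
    rw [hq, eval₂_mul, eval₂_pow, eval₂_X] at hz
    have hu : IsUnit (eval₂ σk (Ideal.Quotient.mk J w) q) := by
      have hc0 : q.coeff 0 ≠ 0 := fun h => hnd (X_dvd_iff.mpr h)
      have hsum : IsUnit (σk (q.coeff 0)) := (Ne.isUnit hc0).map σk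
      have e : eval₂ σk (Ideal.Quotient.mk J w) q =
          eval₂ σk (Ideal.Quotient.mk J w) q.divX * Ideal.Quotient.mk J w + σk (q.coeff 0) := by
        conv_lhs => rw [← divX_mul_X_add q]
        rw [eval₂_add, eval₂_mul, eval₂_X, eval₂_C]
      by_contra hn
      have h1 : eval₂ σk (Ideal.Quotient.mk J w) q.divX * Ideal.Quotient.mk J w ∈ IsLocalRing.maximalIdeal (O ⧸ J) :=
        Ideal.mul_mem_left _ _ ((IsLocalRing.mem_maximalIdeal _).mpr hwnu)
      have h2 : eval₂ σk (Ideal.Quotient.mk J w) q ∈ IsLocalRing.maximalIdeal (O ⧸ J) :=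
        (IsLocalRing.mem_maximalIdeal _).mpr hn
      rw [e] at h2
      exact (IsLocalRing.mem_maximalIdeal _).mp ((Ideal.add_mem_iff_right _ h1).mp h2) hsum
    exact hwJ (IsReduced.eq_zero _ ⟨v, hu.mul_left_eq_zero.mp hz⟩)
  refine ⟨ϖ ^ n, h, c, pow_ne_zero n hϖ.ne_zero, hevh, heq, fun a b P hb hab => ?_⟩
  obtain ⟨k, u, rfl⟩ := IsDiscreteValuationRing.eq_unit_mul_pow_irreducible hb hϖ
  have hw2 : f y = f (algebraMap R A (ϖ ^ n)) * w := by rw [map_pow, map_pow, hyw]
  have key : ∀ (k : ℕ) (P : R[X]) (z : O), eval₂ (f.comp (algebraMap R A)) w P = f (algebraMap R A ϖ) ^ k * z →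
      ∃ Q : R[X], C ϖ ^ k * Q = P := by
    intro k
    induction k with
    | zero => exact fun P z _ => ⟨P, by simp⟩
    | succ k ih =>
      intro P z hz
      have hmem := htr P (by
        rw [show σ = (Ideal.Quotient.mk J).comp (f.comp (algebraMap R A)) from rfl, ← hom_eval₂, hz,
          Ideal.Quotient.eq_zero_iff_mem, pow_succ', mul_assoc]
        exact Ideal.mul_mem_right _ _ (Ideal.mem_span_singleton_self _))
      have hdvd : C ϖ ∣ P := (C_dvd_iff_dvd_coeff _ _).mpr fun i => by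
        have := hmem i
        rwa [hm, Ideal.mem_span_singleton] at this
      obtain ⟨P', rfl⟩ := hdvd
      rw [eval₂_mul, eval₂_C, RingHom.comp_apply, pow_succ', mul_assoc] at hz
      obtain ⟨Q, hQ⟩ := ih P' z (mul_left_cancel₀
        ((map_ne_zero_iff f hf).mpr ((map_ne_zero_iff _ hRA).mpr hϖ.ne_zero)) hz)
      exact ⟨Q, by rw [pow_succ', mul_assoc, hQ]⟩
  obtain ⟨Q, hQ⟩ := key k (C (↑u⁻¹ : R) * P.comp (C (ϖ ^ n) * X)) (f a) (by
    rw [eval₂_mul, eval₂_C, eval₂_comp, eval₂_mul, eval₂_C, eval₂_X]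
    show f (algebraMap R A ↑u⁻¹) * eval₂ (f.comp (algebraMap R A)) (f (algebraMap R A (ϖ ^ n)) * w) P = _
    rw [← hw2, ← hom_eval₂, ← aeval_def, ← hab, ← map_mul, ← mul_assoc, ← map_mul, ← mul_assoc, Units.inv_mul,
      one_mul, map_pow, map_mul, map_pow])
  refine ⟨Q, ?_⟩
  rw [map_mul, map_pow, mul_assoc, hQ, ← mul_assoc, ← C_mul, Units.mul_inv, C_1, one_mul, map_pow]

end GrothLib.GaModel15
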