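import Groth.Agent.Lib.GaModel15.Algebra

/-!
# Lattices in the Laurent polynomial ring
-/

set_option autoImplicit false
set_option linter.all false

universe u

noncomputable section

open Polynomial

namespace GrothLib.GaModel15

/-- `X` is a polynomial in `X ^ l` to any order at `1`, when `l` is invertible. -/
theorem exists_root_poly {R : Type u} [CommRing R] (l : ℕ) (hl : IsUnit (l : R)) :
    ∀ n : ℕ, ∃ Q : R[X], (X - 1) ^ (n + 1) ∣ X - Q.comp (X ^ l) := by
  intro n
  induction n with
  | zero => exact ⟨1, by simp⟩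
  | succ n ih =>
    obtain ⟨Q, E, hE⟩ := ih
    obtain ⟨v, hv⟩ := hl
    set g : R[X] := ∑ i ∈ Finset.range l, X ^ i
    have hg : (X : R[X]) ^ l - 1 = (X - 1) * g := by rw [mul_geom_sum]
    have hg1 : g.eval 1 = (l : R) := by simp [g, eval_finset_sum]
    set w : R := E.eval 1 * ((↑v⁻¹ : R)) ^ (n + 1)
    have hroot : (E - C w * g ^ (n + 1)).IsRoot 1 := by
      rw [IsRoot.def, eval_sub, eval_mul, eval_C, eval_pow, hg1, ← hv, mul_assoc, ← mul_pow, Units.inv_mul, one_pow,
        mul_one, sub_self]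
    obtain ⟨F, hF⟩ := dvd_iff_isRoot.mpr hroot
    refine ⟨Q + C w * (X - 1) ^ (n + 1), F, ?_⟩
    rw [map_one] at hF
    rw [add_comp, mul_comp, C_comp, pow_comp, sub_comp, X_comp, one_comp, hg, mul_pow, pow_succ (X - 1) (n + 1),
      mul_assoc ((X - 1) ^ (n + 1)) (X - 1) F, ← hF]
    linear_combination hE

/-- A congruence holding at all powers of `s ^ l` holds at `s`. -/
theorem eval_mem_of_forall_pow {R : Type u} [CommRing R] {I : Ideal R} {l : ℕ} (hl : IsUnit (l : R)) {s : R} {M : ℕ}
    (hs : ∀ j : ℕ, (s ^ j - 1) ^ (M + 1) ∈ I) (P : R[X]) (h : ∀ i : ℕ, P.eval (s ^ (l * i)) ∈ I) :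
    P.eval s ∈ I := by
  obtain ⟨Q, hQ⟩ := exists_root_poly l hl M
  have hQs : ∀ j : ℕ, s ^ j - Q.eval (s ^ (l * j)) ∈ I := fun j => by
    obtain ⟨E, hE⟩ := hQ
    have := congrArg (eval (s ^ j)) hE
    simp only [eval_sub, eval_X, eval_comp, eval_pow, eval_mul, eval_one, ← pow_mul, mul_comm j l] at this
    rw [this]
    exact I.mul_mem_right _ (hs j)
  have e2 : ∑ i ∈ Finset.range (Q.natDegree + 1), Q.coeff i * P.eval (s ^ (l * i)) =
      ∑ j ∈ Finset.range (P.natDegree + 1), P.coeff j * Q.eval (s ^ (l * j)) := by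
    simp only [eval_eq_sum_range, Finset.mul_sum]
    rw [Finset.sum_comm]
    refine Finset.sum_congr rfl fun j _ => Finset.sum_congr rfl fun i _ => ?_
    rw [← pow_mul, ← pow_mul, mul_assoc l i j, mul_assoc l j i, mul_comm i j, mul_left_comm]
  have e : P.eval s = (∑ j ∈ Finset.range (P.natDegree + 1), P.coeff j * (s ^ j - Q.eval (s ^ (l * j)))) +
      ∑ i ∈ Finset.range (Q.natDegree + 1), Q.coeff i * P.eval (s ^ (l * i)) := by
    rw [e2]
    simp only [mul_sub, Finset.sum_sub_distrib, sub_add_cancel]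
    rw [eval_eq_sum_range]
  rw [e]
  exact add_mem (Ideal.sum_mem _ fun j _ => I.mul_mem_left _ (hQs j)) (Ideal.sum_mem _ fun i _ => I.mul_mem_left _ (h i))

/-- An element with values roots of unity of infinitely many prime orders is transcendental. -/
theorem aeval_injective_of_roots {k : Type u} [Field k] {B : Type u} [CommRing B] [Algebra k B] (t : B)
    (h : ∀ l : ℕ, l.Prime → (l : k) ≠ 0 → ∃ χ : B →ₐ[k] k, (χ t) ^ l = 1 ∧ χ t ≠ 1) :
    Function.Injective (aeval t : k[X] → B) := by
  rw [injective_iff_map_eq_zero]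
  intro q hq
  by_contra hq0
  have hinf : {l : ℕ | l.Prime ∧ ringChar k < l}.Infinite := Set.infinite_of_not_bddAbove fun ⟨b, hb⟩ => by
    obtain ⟨l, hl, hlp⟩ := Nat.exists_infinite_primes (max b (ringChar k) + 1)
    have := hb (show l ∈ {l : ℕ | l.Prime ∧ ringChar k < l} from ⟨hlp, by omega⟩)
    omega
  have hne : ∀ l : ℕ, l.Prime → ringChar k < l → (l : k) ≠ 0 := by
    intro l hl hlt h0
    rcases (Nat.dvd_prime hl).mp ((ringChar.spec k l).mp h0) with h1 | h1
    · exact CharP.ringChar_ne_one h1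
    · omega
  classical
  have hz : ∀ l ∈ {l : ℕ | l.Prime ∧ ringChar k < l}, ∃ z ∈ q.roots.toFinset, orderOf z = l := by
    rintro l ⟨hl, hlt⟩
    obtain ⟨χ, h1, h2⟩ := h l hl (hne l hl hlt)
    refine ⟨χ t, ?_, ?_⟩
    · rw [Multiset.mem_toFinset, mem_roots hq0, IsRoot.def, ← coe_aeval_eq_eval, aeval_algHom_apply, hq, map_zero]
    · haveI := Fact.mk hl
      exact orderOf_eq_prime h1 h2
  exact hinf ((q.roots.toFinset.image orderOf).finite_toSet.subset fun l hl => by
    obtain ⟨z, hz1, hz2⟩ := hz l hl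
    exact Finset.mem_coe.mpr (Finset.mem_image.mpr ⟨z, hz1, hz2⟩))

section Lattice

variable {R : Type u} [CommRing R] [IsDomain R] [IsDiscreteValuationRing R]
  {K : Type u} [Field K] [Algebra R K] [IsFractionRing R K]
  {A : Type u} [CommRing A] [Algebra R A]
  {B : Type u} [CommRing B] [IsDomain B] [Algebra A B] [Algebra K B] [Algebra R B] [IsScalarTower R A B]
  [IsScalarTower R K B]

theorem exists_multiple_notMem [IsNoetherianRing A] (hinj : Function.Injective (algebraMap A B))
    (hsurj : ∀ z : B, ∃ (a : A) (r : R), r ≠ 0 ∧ z * algebraMap R B r = algebraMap A B a)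
    (v : B) (hv0 : v ≠ 0) (ev : A →ₐ[R] R) :
    ∃ (y : A) (c : K), c ≠ 0 ∧ algebraMap A B y = algebraMap K B c * v ∧
      y ∉ (IsLocalRing.maximalIdeal R).map (algebraMap R A) := by
  haveI : IsDomain A := hinj.isDomain _
  have hRK := IsFractionRing.injective R K
  have hRB : Function.Injective (algebraMap R B) := by
    rw [IsScalarTower.algebraMap_eq R K B]
    exact (algebraMap K B).injective.comp hRK
  obtain ⟨ϖ, hϖ⟩ := IsDiscreteValuationRing.exists_irreducible R
  obtain ⟨a, r, hr, ha⟩ := hsurj v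
  have ha0 : a ≠ 0 := fun h => mul_ne_zero hv0 ((map_ne_zero_iff _ hRB).mpr hr) (by rw [ha, h, map_zero])
  have hu : ¬ IsUnit (algebraMap R A ϖ) := fun h => hϖ.not_isUnit (by simpa using h.map ev)
  obtain ⟨n, y, hy, hay⟩ := WfDvdMonoid.max_power_factor' ha0 hu
  have hpK : algebraMap R K ϖ ^ n ≠ 0 := pow_ne_zero _ ((map_ne_zero_iff _ hRK).mpr hϖ.ne_zero)
  refine ⟨y, algebraMap R K r / algebraMap R K ϖ ^ n, div_ne_zero ((map_ne_zero_iff _ hRK).mpr hr) hpK, ?_, ?_⟩
  · apply mul_left_cancel₀ (pow_ne_zero n ((map_ne_zero_iff _ hRB).mpr hϖ.ne_zero))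
    have e : algebraMap R B ϖ ^ n * algebraMap K B (algebraMap R K r / algebraMap R K ϖ ^ n) = algebraMap R B r := by
      rw [IsScalarTower.algebraMap_apply R K B, ← map_pow, ← map_mul, mul_div_cancel₀ _ hpK,
        ← IsScalarTower.algebraMap_apply R K B]
    rw [← mul_assoc, e, mul_comm (algebraMap R B r), ha, hay, map_mul, map_pow, ← IsScalarTower.algebraMap_apply R A B]
  · rw [hϖ.maximalIdeal_eq, Ideal.map_span, Set.image_singleton, Ideal.mem_span_singleton]
    exact hy

/-- Every element of the lattice is, up to powers of `t` and scalars, a polynomial in `t`. -/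
theorem exists_poly (hinj : Function.Injective (algebraMap A B)) (t : A)
    (hgen : ∀ z : B, ∃ (N : ℕ) (P : K[X]), z * algebraMap A B t ^ N = aeval (algebraMap A B t) P) (a : A) :
    ∃ (N : ℕ) (P : R[X]) (b : R), b ≠ 0 ∧ algebraMap R A b * (a * t ^ N) = aeval t P := by
  obtain ⟨N, Q, hQ⟩ := hgen (algebraMap A B a)
  obtain ⟨b, hb, hP⟩ := IsLocalization.integerNormalization_spec (nonZeroDivisors R) Q
  refine ⟨N, IsLocalization.integerNormalization (nonZeroDivisors R) Q, b, nonZeroDivisors.ne_zero hb, ?_⟩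
  apply hinj
  rw [← aeval_algebraMap_apply, ← aeval_map_algebraMap K, hP, ← IsScalarTower.algebraMap_smul K b, map_smul, ← hQ,
    map_mul, map_mul, map_pow, ← IsScalarTower.algebraMap_apply R A B, Algebra.smul_def,
    ← IsScalarTower.algebraMap_apply R K B]

theorem laurent_lattice (hinj : Function.Injective (algebraMap A B)) (t : A) (htu : IsUnit t)
    (hgen : ∀ z : B, ∃ (N : ℕ) (P : K[X]), z * algebraMap A B t ^ N = aeval (algebraMap A B t) P)
    (hfree : Function.Injective (aeval (algebraMap A B t) : K[X] → B))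
    (hmod : ∀ P : R[X], aeval t P ∈ (IsLocalRing.maximalIdeal R).map (algebraMap R A) →
      ∀ i, P.coeff i ∈ IsLocalRing.maximalIdeal R) :
    Function.Injective (aeval t : R[X] → A) ∧ ∀ a : A, ∃ (N : ℕ) (P : R[X]), a * t ^ N = aeval t P := by
  haveI : IsDomain A := hinj.isDomain _
  constructor
  · intro P P' h
    have := congrArg (algebraMap A B) h
    rw [← aeval_algebraMap_apply, ← aeval_algebraMap_apply] at this
    exact map_injective _ (IsFractionRing.injective R K) (hfree (a₁ := P.map (algebraMap R K))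
      (a₂ := P'.map (algebraMap R K)) (by simpa [aeval_map_algebraMap] using this))
  · intro a
    obtain ⟨N, P, b, hb, hP⟩ := exists_poly (R := R) (K := K) hinj t hgen a
    have hRA : Function.Injective (algebraMap R A) := by
      have : Function.Injective (algebraMap R B) := by
        rw [IsScalarTower.algebraMap_eq R K B]
        exact (algebraMap K B).injective.comp (IsFractionRing.injective R K)
      rw [IsScalarTower.algebraMap_eq R A B] at this
      exact Function.Injective.of_comp (f := algebraMap A B) this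
    obtain ⟨ϖ, hϖ⟩ := IsDiscreteValuationRing.exists_irreducible R
    obtain ⟨n, u, hbu⟩ := IsDiscreteValuationRing.eq_unit_mul_pow_irreducible hb hϖ
    have key : ∀ (n : ℕ) (P : R[X]) (c : A), aeval t P = algebraMap R A ϖ ^ n * c → ∃ P' : R[X], aeval t P' = c := by
      intro n
      induction n with
      | zero => exact fun P c h => ⟨P, by simpa using h⟩
      | succ n ih =>
        intro P c h
        have hmem := hmod P (by
          rw [h, hϖ.maximalIdeal_eq, Ideal.map_span, Set.image_singleton, Ideal.mem_span_singleton, pow_succ']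
          exact Dvd.intro _ (mul_assoc _ _ _).symm)
        have hdvd : C ϖ ∣ P := (C_dvd_iff_dvd_coeff _ _).mpr fun i => by
          have := hmem i
          rwa [hϖ.maximalIdeal_eq, Ideal.mem_span_singleton] at this
        obtain ⟨P', rfl⟩ := hdvd
        refine ih P' c ?_
        rw [map_mul, aeval_C, pow_succ', mul_assoc] at h
        exact mul_left_cancel₀ ((map_ne_zero_iff _ hRA).mpr hϖ.ne_zero) h
    obtain ⟨P', hP'⟩ := key n (C (↑u⁻¹ : R) * P) (a * t ^ N) (by
      rw [map_mul, aeval_C, ← hP, ← mul_assoc (algebraMap R A (↑u⁻¹ : R)), ← map_mul, hbu, ← mul_assoc (↑u⁻¹ : R), Units.inv_mul, one_mul, map_pow])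
    exact ⟨N, P', hP'.symm⟩

end Lattice

end GrothLib.GaModel15
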