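import Groth.Agent.Lib.GaModel15.Points
import Groth.Agent.Lib.SemiAb16.GaLine
import Groth.Agent.Lib.Flag27.Closed
import Groth.Agent.Lib.RankCell14.Iso

/-!
# Groups with an open additive subgroup
-/

set_option autoImplicit false
set_option linter.all false
set_option backward.isDefEq.respectTransparency false
set_option maxHeartbeats 1000000

universe u

open CategoryTheory CategoryTheory.Limits MonoidalCategory CartesianMonoidalCategory MonObj GrpObj AlgebraicGeometry
open Polynomial GrothLib.Flag27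

noncomputable section

namespace GrothLib.GaModel15

attribute [-instance] Hom.commGroup Hom.commMonoid CommGrpObj.toIsCommMonObj

variable {k : Type u} [Field k]


variable {H : Over (Spec (CommRingCat.of k))} [GrpObj H]

theorem cl_mul_mem_component (j : Red.Ga (Spec (CommRingCat.of k)) ⟶ H) [IsMonHom j] (a : (𝟙_ (Over (Spec (CommRingCat.of k)))) ⟶ H) (v : (𝟙_ (Over (Spec (CommRingCat.of k)))) ⟶ Red.Ga (Spec (CommRingCat.of k))) :
    cl (a * (v ≫ j)) ∈ connectedComponent (cl a) := by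
  haveI := SemiAb16.connectedSpace_Ga (k := k)
  let f : Red.Ga (Spec (CommRingCat.of k)) ⟶ H := (toUnit _ ≫ a) * j
  have hf : ∀ w : (𝟙_ (Over (Spec (CommRingCat.of k)))) ⟶ Red.Ga (Spec (CommRingCat.of k)), w ≫ f = a * (w ≫ j) := fun w => by
    simp only [f]
    rw [MonObj.comp_mul, ← Category.assoc, toUnit_unique (w ≫ toUnit _) (𝟙 _), Category.id_comp]
  have h1 : cl a ∈ Set.range f.left.base :=
    ⟨cl (1 : (𝟙_ (Over (Spec (CommRingCat.of k)))) ⟶ Red.Ga (Spec (CommRingCat.of k))), by rw [← cl_comp, hf, MonObj.one_comp, _root_.mul_one]⟩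
  exact (isConnected_range f.left.continuous).subset_connectedComponent h1 ⟨cl v, by rw [← cl_comp, hf]⟩

variable [IsAlgClosed k] [LocallyOfFiniteType H.hom] [QuasiCompact H.hom]

theorem exists_finite_cosets (j : Red.Ga (Spec (CommRingCat.of k)) ⟶ H) [IsMonHom j] [IsOpenImmersion j.left] :
    ∃ F : Finset ((𝟙_ (Over (Spec (CommRingCat.of k)))) ⟶ H), ∀ b : (𝟙_ (Over (Spec (CommRingCat.of k)))) ⟶ H, ∃ a ∈ F, ∃ v : (𝟙_ (Over (Spec (CommRingCat.of k)))) ⟶ Red.Ga (Spec (CommRingCat.of k)), b = a * (v ≫ j) := by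
  haveI : LocallyOfFiniteType (Red.Ga (Spec (CommRingCat.of k))).hom := by
    rw [← Over.w j]; infer_instance
  haveI : CompactSpace H.left := QuasiCompact.compactSpace_of_compactSpace H.hom
  let tr : ((𝟙_ (Over (Spec (CommRingCat.of k)))) ⟶ H) → (Red.Ga (Spec (CommRingCat.of k)) ⟶ H) := fun a => j ≫ (RankCell14.translIso a).hom
  have htr : ∀ a (v : (𝟙_ (Over (Spec (CommRingCat.of k)))) ⟶ Red.Ga (Spec (CommRingCat.of k))), v ≫ tr a = a * (v ≫ j) := fun a v => by
    show v ≫ j ≫ ((toUnit H ≫ a) * 𝟙 H) = _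
    rw [← Category.assoc v j, MonObj.comp_mul, ← Category.assoc (v ≫ j), toUnit_unique ((v ≫ j) ≫ toUnit H) (𝟙 _),
      Category.id_comp, Category.comp_id]
  have hopen : ∀ a, IsOpen (Set.range (tr a).left.base) := fun a => by
    haveI : IsIso (RankCell14.translIso a).hom.left := inferInstanceAs (IsIso ((Over.forget (Spec (CommRingCat.of k))).map (RankCell14.translIso a).hom))
    exact IsOpenImmersion.isOpen_range (j.left ≫ (RankCell14.translIso a).hom.left)
  have hcov : (Set.univ : Set H.left) ⊆ ⋃ a, Set.range (tr a).left.base := by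
    by_contra hne
    obtain ⟨p, -, hp⟩ := Set.not_subset.mp hne
    have hsub := subset_of_cl (X := H) (E := (⋃ a, Set.range (tr a).left.base)ᶜ) (F := ∅)
      (isOpen_iUnion hopen).isClosed_compl isClosed_empty (fun z hz => by
        exfalso; apply hz
        exact Set.mem_iUnion.mpr ⟨z, cl (1 : (𝟙_ (Over (Spec (CommRingCat.of k)))) ⟶ Red.Ga (Spec (CommRingCat.of k))), by rw [← cl_comp, htr, MonObj.one_comp, _root_.mul_one]⟩)
    exact hsub hp
  obtain ⟨F, hF⟩ := isCompact_univ.elim_finite_subcover _ hopen hcov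
  refine ⟨F, fun b => ?_⟩
  obtain ⟨a, ha⟩ := Set.mem_iUnion.mp (hF (Set.mem_univ (cl b)))
  obtain ⟨haF, hb⟩ := Set.mem_iUnion.mp ha
  obtain ⟨v, -, hv⟩ := exists_cl_lift (tr a) (E := Set.univ) isOpen_univ.isLocallyClosed (w := b) (by rwa [Set.image_univ])
  exact ⟨a, haF, v, by rw [← htr, hv]⟩

/-- A multiplicative function on a group with open additive subgroup is trivial on that subgroup. -/
theorem apply_Ga_eq_one (j : Red.Ga (Spec (CommRingCat.of k)) ⟶ H) [IsMonHom j] (F : Γ(H.left, ⊤)) (hF : IsUnit F)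
    (h1 : (1 : (𝟙_ (Over (Spec (CommRingCat.of k)))) ⟶ H).left.appTop F = 1) (v : (𝟙_ (Over (Spec (CommRingCat.of k)))) ⟶ Red.Ga (Spec (CommRingCat.of k))) : (v ≫ j).left.appTop F = 1 := by
  obtain ⟨P, hP⟩ := (gaFn_eval_bijective k).surjective (j.left.appTop F)
  have hPu : IsUnit P := by
    obtain ⟨u, hu⟩ := (hF.map j.left.appTop.hom).exists_right_inv
    obtain ⟨Q, hQ⟩ := (gaFn_eval_bijective k).surjective u
    exact IsUnit.of_mul_eq_one Q ((gaFn_eval_bijective k).injective (by rw [map_mul, hP, hQ, map_one]; exact hu))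
  obtain ⟨c, -, rfl⟩ := Polynomial.isUnit_iff.mp hPu
  rw [coe_eval₂RingHom, eval₂_C] at hP
  have hc : ∀ w : (𝟙_ (Over (Spec (CommRingCat.of k)))) ⟶ Red.Ga (Spec (CommRingCat.of k)), (w ≫ j).left.appTop F = scl (𝟙_ (Over (Spec (CommRingCat.of k)))) c := fun w => by
    rw [Over.comp_left, GmPts.appTop_comp_apply, ← hP, appTop_scl]
  rw [hc, ← hc 1, MonObj.one_comp, h1]

end GrothLib.GaModel15
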