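import Groth.Agent.Lib.GaModel15.Kernel
import Groth.Agent.Lib.GaModel15.Components

/-!
# The component group of a model of the multiplicative group with additive special fibre
-/

set_option autoImplicit false
set_option linter.all false
set_option backward.isDefEq.respectTransparency false
set_option maxHeartbeats 2000000
set_option synthInstance.maxHeartbeats 400000

universe u

open CategoryTheory CategoryTheory.Limits MonoidalCategory CartesianMonoidalCategory MonObj GrpObj AlgebraicGeometry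
open Polynomial GrothLib.Flag27

noncomputable section

namespace GrothLib.GaModel15

attribute [-instance] Hom.commGroup Hom.commMonoid CommGrpObj.toIsCommMonObj

/-- A model of the multiplicative group is commutative. -/
theorem comm_of_model {R : Type u} [CommRing R] [IsDomain R] {K : Type u} [CommRing K] [Algebra R K]
    [IsFractionRing R K] (G : Over (Spec (CommRingCat.of R))) [GrpObj G] [IsAffineHom G.hom] [Flat G.hom]
    (x : Red.bc (qK R K) G ⟶ Red.Gm (Spec (CommRingCat.of K))) [IsMonHom x] [IsIso x]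
    {T : Over (Spec (CommRingCat.of R))} (g h : T ⟶ G) : g * h = h * g := by
  haveI : IsAffine G.left := isAffine_of_isAffineHom G.hom
  haveI : IsAffine (G ⊗ G).left := inferInstanceAs (IsAffine (pullback G.hom G.hom))
  haveI : Flat (G ⊗ G).hom := inferInstanceAs (Flat (pullback.fst G.hom G.hom ≫ G.hom))
  have huniv : fst G G * snd G G = snd G G * fst G G := hom_ext_affine fun a => by
    apply (rK_facts (K := K) (G ⊗ G)).1
    have hn : ∀ m : G ⊗ G ⟶ G, rK K (G ⊗ G) (m.left.appTop a) =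
        ((Over.pullback (qK R K)).map m).left.appTop (rK K G a) := by
      intro m
      have e : ((Over.pullback (qK R K)).map m).left ≫ pullback.fst G.hom (qK R K) =
          pullback.fst (G ⊗ G).hom (qK R K) ≫ m.left := by
        simp [Over.pullback]
      show (pullback.fst (G ⊗ G).hom (qK R K)).appTop (m.left.appTop a) = _
      rw [← GmPts.appTop_comp_apply, ← e, GmPts.appTop_comp_apply]
      rfl
    have hm : (Over.pullback (qK R K)).map (fst G G * snd G G) = (Over.pullback (qK R K)).map (snd G G * fst G G) := by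
      rw [← cancel_mono x]
      apply GmPts.gmFn_injective
      show Red.gmFn _ = Red.gmFn _
      rw [Functor.map_mul, Functor.map_mul, MonObj.mul_comp, MonObj.mul_comp, GmPts.gmFn_mul, GmPts.gmFn_mul, mul_comm]
    rw [hn, hn, hm]
  have e1 : ∀ a b : T ⟶ G, a * b = lift a b ≫ (fst G G * snd G G) := fun a b => by
    rw [MonObj.comp_mul, lift_fst, lift_snd]
  rw [e1, huniv, MonObj.comp_mul, lift_fst, lift_snd]

/-- Cyclicity of a group with a character whose kernel is the given subgroup up to `q`-powers. -/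
theorem exists_gen_of_character {P : Type u} [Group P] (hcomm : ∀ a b : P, a * b = b * a) {k : Type u} [Field k]
    (χ : P →* k) (Hs : Subgroup P) (hH : ∀ h ∈ Hs, χ h = 1) (F : Finset P) (hF : ∀ b, ∃ a ∈ F, a⁻¹ * b ∈ Hs)
    (q : ℕ) (hq : ∀ N : ℕ, 0 < N → ∃ a N' : ℕ, q ^ a * N' = N ∧ (N' : k) ≠ 0)
    (hdiv : ∀ h ∈ Hs, ∀ N' : ℕ, (N' : k) ≠ 0 → ∃ h' ∈ Hs, h' ^ N' = h)
    (htors : ∀ (z : P) (N' : ℕ), (N' : k) ≠ 0 → z ^ N' = 1 → χ z = 1 → z = 1) :
    ∃ x₀ : P, ∀ x : P, ∃ a m : ℕ, (x₀ ^ m)⁻¹ * x ^ (q ^ a) ∈ Hs := by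
  classical
  have hker : ∀ z, χ z = 1 → ∃ a, z ^ (q ^ a) ∈ Hs := by
    intro z hz
    choose c hcF hc using fun i : ℕ => hF (z ^ i)
    obtain ⟨i, -, j, -, hij, he⟩ := Set.infinite_univ.exists_lt_map_eq_of_mapsTo (f := c)
      (t := (F : Set P)) (fun i _ => hcF i) F.finite_toSet
    have hN : z ^ (j - i) ∈ Hs := by
      have h2 := Hs.mul_mem (Hs.inv_mem (hc i)) (hc j)
      rw [← he] at h2
      have e : ((c i)⁻¹ * z ^ i)⁻¹ * ((c i)⁻¹ * z ^ j) = z ^ (j - i) := by
        rw [_root_.mul_inv_rev, _root_.inv_inv, _root_.mul_assoc, mul_inv_cancel_left, inv_mul_eq_iff_eq_mul, ← pow_add,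
          Nat.add_sub_cancel' hij.le]
      rwa [e] at h2
    obtain ⟨a, N', hN', hne⟩ := hq (j - i) (by omega)
    rw [← hN', pow_mul] at hN
    obtain ⟨h', hh', he'⟩ := hdiv _ hN N' hne
    refine ⟨a, ?_⟩
    have h1 : z ^ (q ^ a) * h'⁻¹ = 1 := by
      refine htors _ N' hne ?_ ?_
      · rw [(Commute.inv_right (hcomm _ _)).mul_pow, inv_pow, he', mul_inv_cancel]
      · rw [map_mul, map_pow, hz, one_pow, _root_.one_mul, hH _ (Hs.inv_mem hh')]
    rw [mul_inv_eq_one.mp h1]
    exact hh'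
  have hfin : (Set.range χ.toHomUnits).Finite := by
    refine Set.Finite.subset (F.finite_toSet.image χ.toHomUnits) ?_
    rintro _ ⟨b, rfl⟩
    obtain ⟨a, ha, hab⟩ := hF b
    refine ⟨a, ha, Units.ext ?_⟩
    have := hH _ hab
    rw [map_mul] at this
    show χ a = χ b
    calc χ a = χ a * (χ a⁻¹ * χ b) := by rw [this, _root_.mul_one]
      _ = χ b := by rw [← _root_.mul_assoc, ← map_mul, mul_inv_cancel, map_one, _root_.one_mul]
  haveI : Finite χ.toHomUnits.range := hfin.to_subtype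
  haveI : IsCyclic χ.toHomUnits.range := inferInstance
  obtain ⟨⟨g, x₀, rfl⟩, hg⟩ := IsCyclic.exists_monoid_generator (α := χ.toHomUnits.range)
  refine ⟨x₀, fun x => ?_⟩
  obtain ⟨m, hm⟩ := hg ⟨χ.toHomUnits x, x, rfl⟩
  have hm' : χ x₀ ^ m = χ x := by
    have := congrArg (fun z : χ.toHomUnits.range => ((z : kˣ) : k)) hm
    simpa using this
  have hz : χ ((x₀ ^ m)⁻¹ * x) = 1 := by
    rw [map_mul, ← hm', ← map_pow, ← map_mul, inv_mul_cancel, map_one]
  obtain ⟨a, ha⟩ := hker _ hz
  refine ⟨a, m * q ^ a, ?_⟩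
  rwa [pow_mul, ← inv_pow, ← (show Commute (x₀ ^ m)⁻¹ x from hcomm _ _).mul_pow]

/-- The component group of a group over a field with an open additive subgroup and a character. -/
theorem exists_component_gen_field {k : Type u} [Field k] [IsAlgClosed k] (H : Over (Spec (CommRingCat.of k))) [GrpObj H]
    [LocallyOfFiniteType H.hom] [QuasiCompact H.hom] (j : Red.Ga (Spec (CommRingCat.of k)) ⟶ H) [IsMonHom j]
    [IsOpenImmersion j.left]
    (hcomm : ∀ a b : 𝟙_ (Over (Spec (CommRingCat.of k))) ⟶ H, a * b = b * a)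
    (F : Γ(H.left, ⊤)) (hFu : IsUnit F) (hFone : (1 : 𝟙_ (Over (Spec (CommRingCat.of k))) ⟶ H).left.appTop F = 1)
    (hFmul : ∀ a b : 𝟙_ (Over (Spec (CommRingCat.of k))) ⟶ H, (a * b).left.appTop F = a.left.appTop F * b.left.appTop F)
    (q : ℕ) (hq : ∀ N : ℕ, 0 < N → ∃ a N' : ℕ, q ^ a * N' = N ∧ (N' : k) ≠ 0)
    (htors : ∀ (z : 𝟙_ (Over (Spec (CommRingCat.of k))) ⟶ H) (N' : ℕ), (N' : k) ≠ 0 → z ^ N' = 1 →
      z.left.appTop F = 1 → z = 1) :
    ∃ x₀ : 𝟙_ (Over (Spec (CommRingCat.of k))) ⟶ H, ∀ x, ∃ a m : ℕ,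
      cl (x ^ (q ^ a)) ∈ connectedComponent (cl (x₀ ^ m)) := by
  letI instP : Group (𝟙_ (Over (Spec (CommRingCat.of k))) ⟶ H) := Hom.group
  let io := Scheme.ΓSpecIso (CommRingCat.of k)
  let χ : (𝟙_ (Over (Spec (CommRingCat.of k))) ⟶ H) →* k :=
    { toFun := fun x => io.hom (x.left.appTop F)
      map_one' := by
        rw [hFone]
        exact map_one io.hom.hom
      map_mul' := fun a b => by
        rw [hFmul]
        exact map_mul io.hom.hom _ _ }
  let Hs : Subgroup (𝟙_ (Over (Spec (CommRingCat.of k))) ⟶ H) :=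
    { carrier := Set.range (fun v : 𝟙_ (Over (Spec (CommRingCat.of k))) ⟶ Red.Ga (Spec (CommRingCat.of k)) => v ≫ j)
      mul_mem' := by
        rintro _ _ ⟨v, rfl⟩ ⟨w, rfl⟩
        exact ⟨v * w, MonObj.mul_comp v w j⟩
      one_mem' := ⟨1, MonObj.one_comp j⟩
      inv_mem' := by
        rintro _ ⟨v, rfl⟩
        exact ⟨v⁻¹, GrpObj.inv_comp v j⟩ }
  obtain ⟨Fs, hFs⟩ := exists_finite_cosets (H := H) j
  obtain ⟨x₀, hx₀⟩ := exists_gen_of_character hcomm χ Hs
    (by
      rintro _ ⟨v, rfl⟩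
      show io.hom ((v ≫ j).left.appTop F) = 1
      rw [apply_Ga_eq_one j F hFu hFone v]
      exact map_one io.hom.hom)
    Fs (fun b => by
      obtain ⟨a, ha, v, hv⟩ := hFs b
      exact ⟨a, ha, v, by rw [hv, inv_mul_cancel_left]⟩) q hq
    (by
      rintro _ ⟨v, rfl⟩ N' hN'
      let w : 𝟙_ (Over (Spec (CommRingCat.of k))) ⟶ Red.Ga (Spec (CommRingCat.of k)) :=
        RedPts.gaPt (scl (𝟙_ (Over (Spec (CommRingCat.of k)))) ((N' : k)⁻¹) * Red.gaFn v)
      refine ⟨w ≫ j, ⟨w, rfl⟩, ?_⟩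
      have hw : w ^ N' = v := by
        apply RedPts.gaFn_injective
        have hn : ∀ n : ℕ, Red.gaFn (w ^ n) = n * Red.gaFn w := by
          intro n
          induction n with
          | zero => rw [pow_zero, RedPts.gaFn_one, Nat.cast_zero, MulZeroClass.zero_mul]
          | succ n ih => rw [pow_succ, RedPts.gaFn_mul, ih, Nat.cast_succ, add_mul, _root_.one_mul]
        rw [hn, RedPts.gaFn_gaPt, ← _root_.mul_assoc, ← map_natCast (scl (𝟙_ (Over (Spec (CommRingCat.of k))))),
          ← map_mul, mul_inv_cancel₀ hN', map_one, _root_.one_mul]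
      have hpow : ∀ n : ℕ, (w ^ n) ≫ j = (w ≫ j) ^ n := by
        intro n
        induction n with
        | zero => rw [pow_zero, pow_zero, MonObj.one_comp]
        | succ n ih => rw [pow_succ, pow_succ, MonObj.mul_comp, ih]
      rw [← hpow, hw])
    (fun z N' hN' hz hχ => htors z N' hN' hz
      ((ConcreteCategory.bijective_of_isIso io.hom).1 (hχ.trans (map_one io.hom.hom).symm)))
  refine ⟨x₀, fun x => ?_⟩
  obtain ⟨a, m, v, hv⟩ := hx₀ x
  refine ⟨a, m, ?_⟩
  have e2 : x ^ (q ^ a) = x₀ ^ m * (v ≫ j) := by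
    rw [show v ≫ j = (x₀ ^ m)⁻¹ * x ^ (q ^ a) from hv, mul_inv_cancel_left]
  rw [e2]
  exact cl_mul_mem_component j _ v

/-- Generic component statement for a model. -/
theorem exists_component_generator {R : Type u} [CommRing R] [IsDomain R] [IsDiscreteValuationRing R]
    [IsAdicComplete (IsLocalRing.maximalIdeal R) R] {K : Type u} [Field K] [Algebra R K] [IsFractionRing R K]
    [IsAlgClosed (IsLocalRing.ResidueField R)]
    (G : Over (Spec (CommRingCat.of R))) [GrpObj G] [Smooth G.hom] [IsAffineHom G.hom]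
    (e : Red.bc (qK R K) G ≅ Red.Gm (Spec (CommRingCat.of K))) [IsMonHom e.hom]
    (j₀ : Red.Ga (Spec (CommRingCat.of (IsLocalRing.ResidueField R))) ⟶
      Red.bc (Spec.map (CommRingCat.ofHom (IsLocalRing.residue R))) G)
    [IsMonHom j₀] [IsOpenImmersion j₀.left]
    (q : ℕ) (hq : ∀ N : ℕ, 0 < N → ∃ a N' : ℕ, q ^ a * N' = N ∧ (N' : IsLocalRing.ResidueField R) ≠ 0) :
    ∃ x₀ : 𝟙_ (Over (Spec (CommRingCat.of (IsLocalRing.ResidueField R)))) ⟶
        Red.bc (Spec.map (CommRingCat.ofHom (IsLocalRing.residue R))) G,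
      ∀ x, ∃ a m : ℕ, cl (x ^ (q ^ a)) ∈ connectedComponent (cl (x₀ ^ m)) := by
  obtain ⟨t, htu, law, hone, -, hpoly⟩ := exists_model_unit G e
  let res := Spec.map (CommRingCat.ofHom (IsLocalRing.residue R))
  let E := (GrothLib.DiagGrp.bcPointMulEquiv res G
    (𝟙_ (Over (Spec (CommRingCat.of (IsLocalRing.ResidueField R)))))).symm
  let F : Γ((Red.bc res G).left, ⊤) := (pullback.fst G.hom res).appTop t
  have hE : ∀ x, (E x).left.appTop t = x.left.appTop F := fun x => by
    have hl : (E x).left = x.left ≫ pullback.fst G.hom res := by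
      show (((Over.mapPullbackAdj res).homEquiv _ G).symm x).left = _
      simp [Adjunction.homEquiv_counit, Over.mapPullbackAdj]
    rw [hl]
    exact GmPts.appTop_comp_apply _ _ _
  haveI : LocallyOfFiniteType (Red.bc res G).hom := inferInstanceAs (LocallyOfFiniteType (pullback.snd G.hom res))
  haveI : QuasiCompact (Red.bc res G).hom := inferInstanceAs (QuasiCompact (pullback.snd G.hom res))
  refine exists_component_gen_field (Red.bc res G) j₀ ?_ F (htu.map (pullback.fst G.hom res).appTop.hom) ?_ ?_ q hq ?_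
  · intro a b
    exact E.injective (by rw [map_mul, map_mul]; exact comm_of_model G e.hom _ _)
  · rw [← hE, map_one]
    exact hone _
  · intro a b
    rw [← hE, ← hE, ← hE, map_mul]
    exact law _ _ _
  · intro z N' hN' hz hF
    apply E.injective
    rw [map_one]
    refine eq_one_of_pow_eq_one G t htu law hone hpoly N' hN' (E z) (by rw [← map_pow, hz, map_one]) ?_
    rw [hE]
    exact hF

end GrothLib.GaModel15
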