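import Groth.Agent.Lib.GaModel15.MainGm

/-!
# Torsion points in the kernel of the character of a model of the multiplicative group
-/

set_option autoImplicit false
set_option linter.all false
set_option backward.isDefEq.respectTransparency false
set_option maxHeartbeats 2000000
set_option synthInstance.maxHeartbeats 400000

universe u

open CategoryTheory CategoryTheory.Limits MonoidalCategory CartesianMonoidalCategory MonObj GrpObj AlgebraicGeometry
open Polynomial
open scoped TensorProduct

noncomputable section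

namespace GrothLib.GaModel15

attribute [-instance] Hom.commGroup Hom.commMonoid CommGrpObj.toIsCommMonObj

/-- A torsion point of order prime to the residue characteristic killed by the character is trivial. -/
theorem eq_one_of_pow_eq_one {R : Type u} [CommRing R] [IsDomain R] [IsDiscreteValuationRing R]
    [IsAdicComplete (IsLocalRing.maximalIdeal R) R]
    (G : Over (Spec (CommRingCat.of R))) [GrpObj G] [Smooth G.hom] [IsAffineHom G.hom] (t : Γ(G.left, ⊤))
    (htu : IsUnit t)
    (law : ∀ (T : Over (Spec (CommRingCat.of R))) (g h : T ⟶ G),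
      (g * h).left.appTop t = g.left.appTop t * h.left.appTop t)
    (hone : ∀ T : Over (Spec (CommRingCat.of R)), (1 : T ⟶ G).left.appTop t = 1)
    (hpoly : ∀ a, ∃ (N : ℕ) (P : R[X]) (b : R), b ≠ 0 ∧ scl G b * (a * t ^ N) = eval₂RingHom (scl G) t P)
    (l : ℕ) (hl : (l : IsLocalRing.ResidueField R) ≠ 0)
    (x : (Over.map (Spec.map (CommRingCat.ofHom (IsLocalRing.residue R)))).obj
        (𝟙_ (Over (Spec (CommRingCat.of (IsLocalRing.ResidueField R))))) ⟶ G)
    (hxl : x ^ l = 1) (hxt : x.left.appTop t = 1) : x = 1 := by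
  revert x
  haveI : IsAffine G.left := isAffine_of_isAffineHom G.hom
  set k := IsLocalRing.ResidueField R
  set res := Spec.map (CommRingCat.ofHom (IsLocalRing.residue R))
  let m := IsLocalRing.maximalIdeal R
  let A := Γ(G.left, ⊤)
  letI : Algebra R A := (scl G).toAlgebra
  haveI : Algebra.Smooth R A := by
    have h : G.hom.appTop.hom.Smooth := HasRingHomProperty.appTop @Smooth G.hom ‹_›
    have h2 : (scl G).Smooth := (RingHom.Smooth.of_bijective
      (ConcreteCategory.bijective_of_isIso (Scheme.ΓSpecIso (CommRingCat.of R)).inv)).comp h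
    exact h2.toAlgebra
  haveI : HenselianRing R m := inferInstance
  let T₀ := (Over.map res).obj (𝟙_ (Over (Spec (CommRingCat.of k))))
  let io := Scheme.ΓSpecIso (CommRingCat.of k)
  let ioR := Scheme.ΓSpecIso (CommRingCat.of R)
  have hT₀ : ∀ r, scl T₀ r = io.inv (IsLocalRing.residue R r) := fun r => by
    show ((𝟙 (Spec (CommRingCat.of k))) ≫ res).appTop (ioR.inv r) = _
    rw [Category.id_comp]
    exact (congr($(Scheme.ΓSpecIso_inv_naturality (CommRingCat.ofHom (IsLocalRing.residue R))) r)).symm
  have hio : ∀ z, io.hom (io.inv z) = z := fun z => by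
    rw [← CommRingCat.comp_apply, Iso.inv_hom_id, CommRingCat.id_apply]
  have hio' : ∀ z, io.inv (io.hom z) = z := fun z => by
    rw [← CommRingCat.comp_apply, Iso.hom_inv_id, CommRingCat.id_apply]
  have htpow : ∀ (T : Over (Spec (CommRingCat.of R))) (g : T ⟶ G) (n : ℕ), (g ^ n).left.appTop t = g.left.appTop t ^ n := by
    intro T g n
    induction n with
    | zero => rw [pow_zero, pow_zero, hone]
    | succ n ih => rw [pow_succ, pow_succ, law, ih]
  -- reduction of sections
  intro x hxl hxt
  let σ : A →ₐ[R] R ⧸ m :=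
    { (io.hom.hom.comp x.left.appTop.hom : A →+* k) with
      commutes' := fun r => by
        show io.hom (x.left.appTop (scl G r)) = IsLocalRing.residue R r
        rw [appTop_scl, hT₀, hio] }
  obtain ⟨τ, hτ⟩ := Hensel.exists_algHom_lift_of_smooth (R := R) (A := R) (I := m) σ
  obtain ⟨g, hg⟩ := exists_pt (𝟙_ (Over (Spec (CommRingCat.of R)))) (ioR.inv.hom.comp τ.toRingHom) (by
    ext r
    show ioR.inv (τ (scl G r)) = (Scheme.Hom.appTop (𝟙 (Spec (CommRingCat.of R)))) (ioR.inv r)
    rw [Scheme.Hom.id_appTop, CommRingCat.id_apply]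
    exact congrArg ioR.inv (τ.commutes r))
  have hval : ∀ z : R, (toUnit T₀).left.appTop (ioR.inv z) = io.inv (IsLocalRing.residue R z) := fun z => by
    have h1 : scl (𝟙_ (Over (Spec (CommRingCat.of R)))) z = ioR.inv z := by
      show (Scheme.Hom.appTop (𝟙 (Spec (CommRingCat.of R)))) (ioR.inv z) = _
      rw [Scheme.Hom.id_appTop, CommRingCat.id_apply]
    rw [← h1, appTop_scl, hT₀]
  let v : ℕ → A →+* R := fun n => ioR.hom.hom.comp (g ^ n).left.appTop.hom
  have hioR : ∀ z, ioR.inv (ioR.hom z) = z := fun z => by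
    rw [← CommRingCat.comp_apply, Iso.hom_inv_id, CommRingCat.id_apply]
  have hvs : ∀ n r, v n (scl G r) = r := fun n r => by
    show ioR.hom ((g ^ n).left.appTop (scl G r)) = r
    rw [appTop_scl]
    show ioR.hom ((Scheme.Hom.appTop (𝟙 (Spec (CommRingCat.of R)))) (ioR.inv r)) = r
    rw [Scheme.Hom.id_appTop, CommRingCat.id_apply, ← CommRingCat.comp_apply, Iso.inv_hom_id, CommRingCat.id_apply]
  have hgx : toUnit T₀ ≫ g = x := hom_ext_affine fun a => by
    rw [Over.comp_left, GmPts.appTop_comp_apply, hg]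
    show (toUnit T₀).left.appTop (ioR.inv (τ a)) = _
    rw [hval]
    have := AlgHom.congr_fun hτ a
    exact (congrArg io.inv this).trans (hio' _)
  have hpow : ∀ n : ℕ, toUnit T₀ ≫ g ^ n = x ^ n := by
    intro n
    induction n with
    | zero => rw [pow_zero, pow_zero, MonObj.comp_one]
    | succ n ih => rw [pow_succ, pow_succ, MonObj.comp_mul, ih, hgx]
  have hred : ∀ n a, io.inv (IsLocalRing.residue R (v n a)) = (x ^ n).left.appTop a := fun n a => by
    rw [← hpow, Over.comp_left, GmPts.appTop_comp_apply, ← hval]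
    exact congrArg _ (hioR _)
  set s := v 1 t with hs
  have hvt : ∀ n, v n t = s ^ n := fun n => by
    show ioR.hom ((g ^ n).left.appTop t) = (ioR.hom ((g ^ 1).left.appTop t)) ^ n
    rw [htpow, htpow, pow_one, map_pow]
  have hsu : IsUnit s := htu.map (v 1)
  have hs1 : ∀ j : ℕ, s ^ j - 1 ∈ m := fun j => by
    rw [← Ideal.Quotient.eq_zero_iff_mem, map_sub, map_pow, map_one]
    have h1 : IsLocalRing.residue R s = 1 := by
      have h := congrArg io.hom (hred 1 t)
      rwa [hio, pow_one, hxt, map_one] at h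
    show IsLocalRing.residue R s ^ j - 1 = 0
    rw [h1, one_pow, sub_self]
  refine hom_ext_affine fun a => ?_
  set a' := a - scl G (v 0 a)
  obtain ⟨N, P, b, hb, hP⟩ := hpoly a'
  have hP' : ∀ n, b * (v n a' * (s ^ n) ^ N) = P.eval (s ^ n) := fun n => by
    have h := congrArg (v n) hP
    rw [map_mul, map_mul, map_pow, hvs, hvt, coe_eval₂RingHom, hom_eval₂, hvt] at h
    rw [h]
    show _ = eval₂ (RingHom.id R) _ _
    congr 1
    exact RingHom.ext (hvs n)
  obtain ⟨ϖ, hϖ⟩ := IsDiscreteValuationRing.exists_irreducible R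
  obtain ⟨M, u, hbu⟩ := IsDiscreteValuationRing.eq_unit_mul_pow_irreducible hb hϖ
  have hsM : ∀ j : ℕ, (s ^ j - 1) ^ (M + 1) ∈ Ideal.span {b} * m := fun j => by
    have h := Ideal.pow_mem_pow (hs1 j) (M + 1)
    rw [pow_succ] at h
    refine Ideal.mul_mono_left ?_ h
    show m ^ M ≤ Ideal.span {b}
    rw [show m = Ideal.span {ϖ} from hϖ.maximalIdeal_eq, Ideal.span_singleton_pow, Ideal.span_singleton_le_span_singleton, hbu]
    exact (Units.mul_left_dvd).mpr dvd_rfl
  have hlu : IsUnit (l : R) := by
    by_contra h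
    apply hl
    rw [← map_natCast (IsLocalRing.residue R)]
    exact (IsLocalRing.residue_eq_zero_iff _).mpr ((IsLocalRing.mem_maximalIdeal _).mpr h)
  have hmem := eval_mem_of_forall_pow hlu hsM P fun i => by
    rw [← hP' (l * i)]
    refine Ideal.mul_mem_mul (Ideal.mem_span_singleton_self b) (Ideal.mul_mem_right _ _ ?_)
    rw [← IsLocalRing.residue_eq_zero_iff, map_sub, hvs, map_sub, sub_eq_zero]
    apply (ConcreteCategory.bijective_of_isIso io.inv).1
    rw [hred, hred, pow_mul, hxl, one_pow, pow_zero]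
  have h1 : P.eval s = b * (v 1 a' * s ^ N) := by
    have := hP' 1; rw [pow_one] at this; exact this.symm
  rw [h1, Ideal.mem_span_singleton_mul] at hmem
  obtain ⟨z, hz, hze⟩ := hmem
  rw [mul_left_cancel₀ hb hze] at hz
  have h2 : v 1 a' ∈ m := (Ideal.mul_unit_mem_iff_mem m (hsu.pow N)).mp hz
  rw [← IsLocalRing.residue_eq_zero_iff, map_sub, hvs, map_sub, sub_eq_zero] at h2
  have := congrArg io.inv h2
  rw [hred, hred, pow_one, pow_zero] at this
  exact this

end GrothLib.GaModel15
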