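import Groth.Agent.Lib.GaModel15.Points
import Groth.Agent.Lib.SemiAb16.GaLine

/-!
# Smooth affine models of the additive group in residue characteristic zero
-/

set_option autoImplicit false
set_option linter.all false
set_option backward.isDefEq.respectTransparency false
set_option maxHeartbeats 2000000
set_option synthInstance.maxHeartbeats 400000

universe u

open CategoryTheory CategoryTheory.Limits MonoidalCategory CartesianMonoidalCategory MonObj GrpObj AlgebraicGeometry
open Polynomial
open scoped TensorProduct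

noncomputable section

namespace GrothLib.GaModel15

attribute [-instance] Hom.commGroup Hom.commMonoid CommGrpObj.toIsCommMonObj

variable {R : Type u} [CommRing R] {K : Type u} [CommRing K] [Algebra R K]

variable (R K) in
/-- The generic fibre. -/
abbrev qK : Spec (CommRingCat.of K) ⟶ Spec (CommRingCat.of R) := Spec.map (CommRingCat.ofHom (algebraMap R K))

variable (K) in
/-- Restriction of functions to the generic fibre. -/
def rK (W : Over (Spec (CommRingCat.of R))) :
    Γ(W.left, ⊤) →+* Γ((Red.bc (qK R K) W).left, ⊤) :=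
  (pullback.fst W.hom (qK R K)).appTop.hom

theorem rK_scl (W : Over (Spec (CommRingCat.of R))) (r : R) :
    rK K W (scl W r) = scl (Red.bc (qK R K) W) (algebraMap R K r) := by
  have h := congr($(Scheme.ΓSpecIso_inv_naturality (CommRingCat.ofHom (algebraMap R K))) r)
  change (Scheme.ΓSpecIso (CommRingCat.of K)).inv ((CommRingCat.ofHom (algebraMap R K)) r) =
    (qK R K).appTop ((Scheme.ΓSpecIso (CommRingCat.of R)).inv r) at h
  change (pullback.fst W.hom (qK R K)).appTop (W.hom.appTop ((Scheme.ΓSpecIso (CommRingCat.of R)).inv r)) = _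
  simp only [CommRingCat.comp_apply]
  simp only [rK, scl, CommRingCat.hom_comp, RingHom.comp_apply]
  show _ = (pullback.snd W.hom (qK R K)).appTop
    ((Scheme.ΓSpecIso (CommRingCat.of K)).inv ((CommRingCat.ofHom (algebraMap R K)) r))
  rw [h, ← GmPts.appTop_comp_apply, ← GmPts.appTop_comp_apply, pullback.condition]

theorem flat_scl (W : Over (Spec (CommRingCat.of R))) [IsAffine W.left] [Flat W.hom] : (scl W).Flat := by
  have h : W.hom.appTop.hom.Flat := HasRingHomProperty.appTop @Flat W.hom ‹_›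
  exact (RingHom.Flat.of_bijective (ConcreteCategory.bijective_of_isIso (Scheme.ΓSpecIso (CommRingCat.of R)).inv)).comp h

theorem finiteType_scl (W : Over (Spec (CommRingCat.of R))) [IsAffine W.left] [LocallyOfFiniteType W.hom] :
    (scl W).FiniteType := by
  have h : W.hom.appTop.hom.FiniteType := HasRingHomProperty.appTop @LocallyOfFiniteType W.hom ‹_›
  exact h.comp (RingHom.FiniteType.of_surjective _
    (ConcreteCategory.bijective_of_isIso (Scheme.ΓSpecIso (CommRingCat.of R)).inv).2)

section Generic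

variable [IsDomain R] [IsFractionRing R K]

theorem rK_facts (W : Over (Spec (CommRingCat.of R))) [IsAffine W.left] [Flat W.hom] :
    Function.Injective (rK K W) ∧ ∀ z, ∃ (a : Γ(W.left, ⊤)) (r : R), r ≠ 0 ∧
      z * scl (Red.bc (qK R K) W) (algebraMap R K r) = rK K W a := by
  have h := isPushout_appTop_of_isPullback (IsPullback.of_hasPullback W.hom (qK R K))
  have h' : IsPushout (CommRingCat.ofHom (scl W)) (CommRingCat.ofHom (algebraMap R K))
      (CommRingCat.ofHom (rK K W)) (CommRingCat.ofHom (scl (Red.bc (qK R K) W))) := by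
    refine h.of_iso (Scheme.ΓSpecIso (CommRingCat.of R)) (Iso.refl _) (Scheme.ΓSpecIso (CommRingCat.of K)) (Iso.refl _)
      ?_ ?_ ?_ ?_
    · simp [scl]
    · exact Scheme.ΓSpecIso_naturality _
    · simp [rK]
    · simp [scl]
  letI : Algebra R Γ(W.left, ⊤) := (scl W).toAlgebra
  letI : Algebra Γ(W.left, ⊤) Γ((Red.bc (qK R K) W).left, ⊤) := (rK K W).toAlgebra
  letI : Algebra K Γ((Red.bc (qK R K) W).left, ⊤) := (scl (Red.bc (qK R K) W)).toAlgebra
  letI : Algebra R Γ((Red.bc (qK R K) W).left, ⊤) := ((rK K W).comp (scl W)).toAlgebra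
  haveI : IsScalarTower R Γ(W.left, ⊤) Γ((Red.bc (qK R K) W).left, ⊤) := .of_algebraMap_eq' rfl
  haveI : IsScalarTower R K Γ((Red.bc (qK R K) W).left, ⊤) := .of_algebraMap_eq (rK_scl W)
  haveI : Algebra.IsPushout R Γ(W.left, ⊤) K Γ((Red.bc (qK R K) W).left, ⊤) := CommRingCat.isPushout_iff_isPushout.mp h'
  haveI : IsLocalization (Algebra.algebraMapSubmonoid Γ(W.left, ⊤) (nonZeroDivisors R)) Γ((Red.bc (qK R K) W).left, ⊤) :=
    (Algebra.isLocalization_iff_isPushout (A := K) (nonZeroDivisors R)).mpr this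
  haveI : Module.Flat R Γ(W.left, ⊤) := flat_scl W
  refine ⟨IsLocalization.injective (S := Γ((Red.bc (qK R K) W).left, ⊤))
    (M := Algebra.algebraMapSubmonoid Γ(W.left, ⊤) (nonZeroDivisors R)) ?_, fun z => ?_⟩
  · rintro x ⟨r, hr, rfl⟩
    refine mem_nonZeroDivisors_iff_right.mpr fun a ha => ?_
    apply Module.Flat.isSMulRegular_of_nonZeroDivisors (M := Γ(W.left, ⊤)) hr
    show r • a = r • (0 : Γ(W.left, ⊤))
    rw [Algebra.smul_def, smul_zero, mul_comm]
    exact ha
  · obtain ⟨⟨a, ⟨x, r, hr, rfl⟩⟩, e⟩ :=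
      IsLocalization.surj (Algebra.algebraMapSubmonoid Γ(W.left, ⊤) (nonZeroDivisors R)) z
    refine ⟨a, r, nonZeroDivisors.ne_zero hr, ?_⟩
    rw [← rK_scl]
    exact e

/-- A function whose restriction to the generic fibre is proportional to an additive one is additive. -/
theorem additive (G : Over (Spec (CommRingCat.of R))) [GrpObj G] [IsAffineHom G.hom] [Flat G.hom]
    (x : Red.bc (qK R K) G ⟶ Red.Ga (Spec (CommRingCat.of K))) [IsMonHom x]
    (y : Γ(G.left, ⊤)) (c : K)
    (hy : rK K G y = scl (Red.bc (qK R K) G) c * Red.gaFn x)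
    {T : Over (Spec (CommRingCat.of R))} (g h : T ⟶ G) :
    (g * h).left.appTop y = g.left.appTop y + h.left.appTop y := by
  haveI : IsAffine G.left := isAffine_of_isAffineHom G.hom
  haveI : IsAffine (G ⊗ G).left := inferInstanceAs (IsAffine (pullback G.hom G.hom))
  haveI : Flat (G ⊗ G).hom := inferInstanceAs (Flat (pullback.fst G.hom G.hom ≫ G.hom))
  have hn : ∀ (m : G ⊗ G ⟶ G), rK K (G ⊗ G) (m.left.appTop y) =
      scl (Red.bc (qK R K) (G ⊗ G)) c * Red.gaFn ((Over.pullback (qK R K)).map m ≫ x) := by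
    intro m
    have e : ((Over.pullback (qK R K)).map m).left ≫ pullback.fst G.hom (qK R K) = pullback.fst (G ⊗ G).hom (qK R K) ≫ m.left := by
      simp [Over.pullback]
    rw [RedPts.gaFn_comp]
    show (pullback.fst (G ⊗ G).hom (qK R K)).appTop (m.left.appTop y) = _
    rw [← GmPts.appTop_comp_apply, ← e, GmPts.appTop_comp_apply]
    show ((Over.pullback (qK R K)).map m).left.appTop (rK K G y) = _
    rw [hy, map_mul, appTop_scl]
  have huniv : (fst G G * snd G G).left.appTop y = (fst G G).left.appTop y + (snd G G).left.appTop y := by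
    apply (rK_facts (K := K) (G ⊗ G)).1
    rw [map_add, hn, hn, hn, Functor.map_mul, MonObj.mul_comp, RedPts.gaFn_mul, mul_add]
  have e1 : g * h = lift g h ≫ (fst G G * snd G G) := by
    rw [MonObj.comp_mul, lift_fst, lift_snd]
  rw [e1, Over.comp_left, GmPts.appTop_comp_apply, huniv, map_add, ← GmPts.appTop_comp_apply,
    ← GmPts.appTop_comp_apply, ← Over.comp_left, ← Over.comp_left, lift_fst, lift_snd]

end Generic

section DVR

variable {R : Type u} [CommRing R] [IsDomain R] [IsDiscreteValuationRing R] {K : Type u} [Field K] [Algebra R K]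
  [IsFractionRing R K]

/-- The unit section evaluates functions. -/
theorem exists_ev (G : Over (Spec (CommRingCat.of R))) [GrpObj G] :
    ∃ ev : Γ(G.left, ⊤) →+* R, ∀ r, ev (scl G r) = r := by
  refine ⟨((η[G] : 𝟙_ (Over (Spec (CommRingCat.of R))) ⟶ G).left.appTop ≫ (Scheme.ΓSpecIso (CommRingCat.of R)).hom).hom,
    fun r => ?_⟩
  show (Scheme.ΓSpecIso (CommRingCat.of R)).hom (η[G].left.appTop (scl G r)) = r
  rw [appTop_scl]
  show (Scheme.ΓSpecIso (CommRingCat.of R)).hom ((Scheme.Hom.appTop (𝟙 (Spec (CommRingCat.of R))))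
    ((Scheme.ΓSpecIso (CommRingCat.of R)).inv r)) = r
  rw [Scheme.Hom.id_appTop, CommRingCat.id_apply, ← CommRingCat.comp_apply, Iso.inv_hom_id, CommRingCat.id_apply]

theorem exists_model_coord [CharZero (IsLocalRing.ResidueField R)] (G : Over (Spec (CommRingCat.of R))) [GrpObj G]
    [IsAffineHom G.hom] [Flat G.hom] [LocallyOfFiniteType G.hom]
    (e : Red.bc (qK R K) G ≅ Red.Ga (Spec (CommRingCat.of K))) [IsMonHom e.hom] :
    ∃ y : Γ(G.left, ⊤), (∀ (T : Over (Spec (CommRingCat.of R))) (g h : T ⟶ G),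
        (g * h).left.appTop y = g.left.appTop y + h.left.appTop y) ∧
      Function.Bijective (eval₂RingHom (scl G) y) := by
  haveI : IsAffine G.left := isAffine_of_isAffineHom G.hom
  set x := e.hom
  let A := Γ(G.left, ⊤)
  let B := Γ((Red.bc (qK R K) G).left, ⊤)
  letI : Algebra R A := (scl G).toAlgebra
  letI : Algebra A B := (rK K G).toAlgebra
  letI : Algebra K B := (scl (Red.bc (qK R K) G)).toAlgebra
  letI : Algebra R B := ((rK K G).comp (scl G)).toAlgebra
  haveI : IsScalarTower R A B := .of_algebraMap_eq' rfl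
  haveI : IsScalarTower R K B := .of_algebraMap_eq (rK_scl G)
  haveI : IsNoetherianRing A := by
    haveI : Algebra.FiniteType R A := finiteType_scl G
    exact Algebra.FiniteType.isNoetherianRing R A
  have hv : Function.Bijective (aeval (Red.gaFn x) : K[X] → B) := by
    have hb : Function.Bijective x.left.appTop := ConcreteCategory.bijective_of_isIso _
    have heq : ∀ p : K[X], aeval (Red.gaFn x) p =
        x.left.appTop (eval₂RingHom (scl (Red.Ga (Spec (CommRingCat.of K)))) (Red.gaFn (𝟙 _)) p) := by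
      intro p
      rw [coe_eval₂RingHom, hom_eval₂, aeval_def]
      congr 1
      · ext c
        exact (appTop_scl x c).symm
    exact (funext heq : (aeval (Red.gaFn x) : K[X] → B) = _) ▸ hb.comp (gaFn_eval_bijective K)
  obtain ⟨hinj, hsurj⟩ := rK_facts (K := K) G
  obtain ⟨ev, hev⟩ := exists_ev G
  obtain ⟨y, c, hc, hy, hym⟩ := exists_primitive_multiple (R := R) (A := A) hinj
    (fun z => by
      obtain ⟨a, r, hr, h⟩ := hsurj z
      exact ⟨a, r, hr, by rw [IsScalarTower.algebraMap_apply R K B]; exact h⟩)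
    (Red.gaFn x) hv { ev with commutes' := hev }
  have hadd : ∀ (T : Over (Spec (CommRingCat.of R))) (g h : T ⟶ G),
      (g * h).left.appTop y = g.left.appTop y + h.left.appTop y := fun T g h => additive G x y c hy g h
  refine ⟨y, hadd, bijective_aeval (R := R) (A := A) hinj (Red.gaFn x) hv y c hc hy ?_⟩
  let m := IsLocalRing.maximalIdeal R
  let k := R ⧸ m
  letI : Field k := Ideal.Quotient.field m
  haveI : CharZero k := inferInstanceAs (CharZero (IsLocalRing.ResidueField R))
  let J : Ideal A := m.map (algebraMap R A)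
  let Ab := A ⧸ J
  letI : Algebra k Ab := Ideal.Quotient.algebraQuotientMapQuotient
  haveI : IsScalarTower R k Ab := .of_algebraMap_eq fun r => rfl
  let s : Ab := Ideal.Quotient.mk J y
  have hs : s ≠ 0 := fun h => hym (Ideal.Quotient.eq_zero_iff_mem.mp h)
  have hinj' : Function.Injective (aeval s : k[X] → Ab) := by
    refine aeval_injective_of_primitive hs fun p hp => ?_
    obtain ⟨P, rfl⟩ := Polynomial.map_surjective (Ideal.Quotient.mk m) Ideal.Quotient.mk_surjective p
    let Cc := Ab ⊗[k] Ab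
    let σ : R →+* Cc := (algebraMap k Cc).comp (Ideal.Quotient.mk m)
    let fl : A →+* Cc := (Algebra.TensorProduct.includeLeftRingHom).comp (Ideal.Quotient.mk J)
    let fr : A →+* Cc := ((Algebra.TensorProduct.includeRight : Ab →ₐ[k] Cc).toRingHom).comp (Ideal.Quotient.mk J)
    let T : Over (Spec (CommRingCat.of R)) := Over.mk (Spec.map (CommRingCat.ofHom σ))
    let io := Scheme.ΓSpecIso (CommRingCat.of Cc)
    have hT : ∀ r, scl T r = io.inv (σ r) := fun r =>
      (congr($(Scheme.ΓSpecIso_inv_naturality (CommRingCat.ofHom σ)) r)).symm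
    have hio : ∀ z, io.hom (io.inv z) = z := fun z => by
      rw [← CommRingCat.comp_apply, Iso.inv_hom_id, CommRingCat.id_apply]
    obtain ⟨g, hg⟩ := exists_pt T (io.inv.hom.comp fl) (by
      ext r
      exact (congrArg io.inv (show fl (scl G r) = σ r from rfl)).trans (hT r).symm)
    obtain ⟨h, hh⟩ := exists_pt T (io.inv.hom.comp fr) (by
      ext r
      exact (congrArg io.inv (show fr (scl G r) = σ r from
        (Algebra.TensorProduct.includeRight : Ab →ₐ[k] Cc).commutes (Ideal.Quotient.mk m r))).trans (hT r).symm)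
    let θ : A →+* Cc := io.hom.hom.comp (g * h).left.appTop.hom
    have hθy : θ y = s ⊗ₜ[k] (1 : Ab) + (1 : Ab) ⊗ₜ[k] s := by
      show io.hom ((g * h).left.appTop y) = _
      rw [hadd, map_add, hg, hh]
      exact congrArg₂ (· + ·) (hio _) (hio _)
    have hθs : ∀ r, θ (algebraMap R A r) = σ r := fun r => by
      show io.hom ((g * h).left.appTop (scl G r)) = _
      rw [appTop_scl, hT]
      exact hio _
    have hθJ : ∀ a ∈ J, θ a = 0 := by
      intro a ha
      refine (Ideal.map_le_iff_le_comap (K := RingHom.ker θ)).mpr (fun r hr => ?_) ha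
      rw [Ideal.mem_comap, RingHom.mem_ker, hθs]
      show algebraMap k Cc (Ideal.Quotient.mk m r) = 0
      rw [Ideal.Quotient.eq_zero_iff_mem.mpr hr, map_zero]
    have hP : aeval y P ∈ J := by
      rw [← Ideal.Quotient.eq_zero_iff_mem, aeval_def, hom_eval₂]
      rw [aeval_def, eval₂_map] at hp
      exact hp
    have := hθJ _ hP
    rw [aeval_def, hom_eval₂, hθy] at this
    rw [aeval_def, eval₂_map, ← this]
    congr 1
    ext r
    exact (hθs r).symm
  intro P hP i
  rw [← Ideal.Quotient.eq_zero_iff_mem] at hP ⊢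
  have : aeval s (P.map (Ideal.Quotient.mk m)) = 0 := by
    rw [aeval_def, eval₂_map]
    rw [aeval_def, hom_eval₂] at hP
    exact hP
  have h0 := hinj' (a₁ := P.map (Ideal.Quotient.mk m)) (a₂ := 0) (by rw [this, map_zero])
  have := congrArg (fun p : k[X] => p.coeff i) h0
  simpa using this

/-- A flat affine model of the additive group with residue characteristic zero is the additive group. -/
theorem exists_iso_Ga [CharZero (IsLocalRing.ResidueField R)] (G : Over (Spec (CommRingCat.of R))) [GrpObj G]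
    [IsAffineHom G.hom] [Flat G.hom] [LocallyOfFiniteType G.hom]
    (e : Red.bc (qK R K) G ≅ Red.Ga (Spec (CommRingCat.of K))) [IsMonHom e.hom] :
    ∃ e' : G ≅ Red.Ga (Spec (CommRingCat.of R)), IsMonHom e'.hom := by
  haveI : IsAffine G.left := isAffine_of_isAffineHom G.hom
  obtain ⟨y, hadd, hbij⟩ := exists_model_coord G e
  set Γa := Red.Ga (Spec (CommRingCat.of R))
  let φ : G ⟶ Γa := RedPts.gaPt y
  let E := RingEquiv.ofBijective (eval₂RingHom (scl G) y) hbij
  let ψ := eval₂RingHom (scl Γa) (Red.gaFn (𝟙 Γa))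
  have hEC : ∀ r, E.symm (scl G r) = Polynomial.C r := fun r => by
    rw [RingEquiv.symm_apply_eq]; exact (eval₂_C _ _).symm
  have hEX : E.symm y = Polynomial.X := by
    rw [RingEquiv.symm_apply_eq]; exact (eval₂_X _ _).symm
  obtain ⟨w, hw⟩ := exists_pt Γa (ψ.comp E.symm.toRingHom) (by
    ext r
    show ψ (E.symm (scl G r)) = _
    rw [hEC]; exact eval₂_C _ _)
  have hwφ : w ≫ φ = 𝟙 Γa := RedPts.gaFn_injective (by
    rw [RedPts.gaFn_comp, RedPts.gaFn_gaPt, hw]
    show ψ (E.symm y) = _
    rw [hEX]; exact eval₂_X _ _)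
  have hφw : φ ≫ w = 𝟙 G := hom_ext_affine fun a => by
    obtain ⟨p, rfl⟩ := hbij.surjective a
    rw [Over.comp_left, GmPts.appTop_comp_apply, hw, Over.id_left, Scheme.Hom.id_appTop, CommRingCat.id_apply]
    show φ.left.appTop (ψ (E.symm (E p))) = eval₂RingHom (scl G) y p
    rw [RingEquiv.symm_apply_apply, coe_eval₂RingHom, coe_eval₂RingHom, hom_eval₂]
    congr 1
    · ext r; exact appTop_scl φ r
    · rw [← RedPts.gaFn_comp, Category.comp_id, RedPts.gaFn_gaPt]
  refine ⟨⟨φ, w, hφw, hwφ⟩, ⟨?_, ?_⟩⟩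
  · show η[G] ≫ φ = η[Γa]
    have h1 : η[Γa] = (1 : 𝟙_ (Over (Spec (CommRingCat.of R))) ⟶ Γa) := by
      rw [Hom.one_def]; simp
    have h2 : η[G] = (1 : 𝟙_ (Over (Spec (CommRingCat.of R))) ⟶ G) := by
      rw [Hom.one_def]; simp
    rw [h1, h2]
    refine RedPts.gaFn_injective ?_
    rw [RedPts.gaFn_one, RedPts.gaFn_comp, RedPts.gaFn_gaPt]
    have := hadd _ (1 : 𝟙_ (Over (Spec (CommRingCat.of R))) ⟶ G) 1
    rw [_root_.one_mul] at this
    exact left_eq_add.mp this
  · show μ[G] ≫ φ = (φ ⊗ₘ φ) ≫ μ[Γa]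
    have h1 : μ[G] = fst G G * snd G G := by
      rw [Hom.mul_def, lift_fst_snd, Category.id_comp]
    have h2 : (φ ⊗ₘ φ) ≫ μ[Γa] = (fst G G ≫ φ) * (snd G G ≫ φ) := by
      rw [Hom.mul_def]; congr 1
    rw [h1, h2]
    refine RedPts.gaFn_injective ?_
    rw [RedPts.gaFn_mul, RedPts.gaFn_comp, RedPts.gaFn_comp, RedPts.gaFn_comp, RedPts.gaFn_gaPt, hadd]

/-- The fibres over fields are then connected. -/
theorem connectedSpace_bc {G : Over (Spec (CommRingCat.of R))} (e' : G ≅ Red.Ga (Spec (CommRingCat.of R)))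
    {k : Type u} [Field k] (q : Spec (CommRingCat.of k) ⟶ Spec (CommRingCat.of R)) :
    ConnectedSpace (Red.bc q G).left := by
  haveI := SemiAb16.connectedSpace_Ga (k := k)
  let i1 : (Red.bc q G).left ≅ (Red.bc q (Red.Ga (Spec (CommRingCat.of R)))).left :=
    (Over.forget _).mapIso ((Over.pullback q).mapIso e')
  let i2 : (Red.bc q (Red.Ga (Spec (CommRingCat.of R)))).left ≅ (Red.Ga (Spec (CommRingCat.of k))).left :=
    pullbackLeftPullbackSndIso Red.GaZ.hom _ q ≪≫
      pullback.congrHom rfl (specULiftZIsTerminal.hom_ext _ _)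
  exact (i1 ≪≫ i2).inv.surjective.connectedSpace (i1 ≪≫ i2).inv.continuous

end DVR

end GrothLib.GaModel15
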