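import Groth.Agent.Lib.GaModel15.MainGm
import Groth.Agent.Lib.GaModel15.AlgebraDilat
import Groth.Agent.Lib.NoTorus14.Basic

/-!
# Smooth affine models of the additive group in positive residue characteristic
-/

set_option autoImplicit false
set_option linter.all false
set_option backward.isDefEq.respectTransparency false
set_option maxHeartbeats 2000000
set_option synthInstance.maxHeartbeats 400000

universe u

open CategoryTheory CategoryTheory.Limits MonoidalCategory CartesianMonoidalCategory MonObj GrpObj AlgebraicGeometry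
open Polynomial

noncomputable section

namespace GrothLib.GaModel15

attribute [-instance] Hom.commGroup Hom.commMonoid CommGrpObj.toIsCommMonObj

variable {R : Type u} [CommRing R] [IsDomain R] [IsDiscreteValuationRing R]

theorem exists_additive_coord {K : Type u} [Field K] [Algebra R K] [IsFractionRing R K]
    (G : Over (Spec (CommRingCat.of R))) [GrpObj G] [IsAffineHom G.hom] [Flat G.hom] [LocallyOfFiniteType G.hom]
    (e : Red.bc (qK R K) G ≅ Red.Ga (Spec (CommRingCat.of K))) [IsMonHom e.hom] :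
    ∃ y : Γ(G.left, ⊤), y ≠ 0 ∧ (∀ (T : Over (Spec (CommRingCat.of R))) (g h : T ⟶ G),
        (g * h).left.appTop y = g.left.appTop y + h.left.appTop y) ∧
      IsDomain Γ(G.left, ⊤) ∧ Function.Injective (scl G) ∧
      Function.Injective (eval₂RingHom (scl G) y) ∧
      (∀ a, ∃ (P : R[X]) (b : R), b ≠ 0 ∧ scl G b * a = eval₂RingHom (scl G) y P) := by
  haveI : IsAffine G.left := isAffine_of_isAffineHom G.hom
  set x := e.hom
  let A := Γ(G.left, ⊤)
  let B := Γ((Red.bc (qK R K) G).left, ⊤)
  letI : Algebra R A := (scl G).toAlgebra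
  letI : Algebra A B := (rK K G).toAlgebra
  letI : Algebra K B := (scl (Red.bc (qK R K) G)).toAlgebra
  letI : Algebra R B := ((rK K G).comp (scl G)).toAlgebra
  haveI : IsScalarTower R A B := .of_algebraMap_eq' rfl
  haveI : IsScalarTower R K B := .of_algebraMap_eq (rK_scl G)
  have hv : Function.Bijective (aeval (Red.gaFn x) : K[X] → B) := by
    have hb : Function.Bijective x.left.appTop := ConcreteCategory.bijective_of_isIso _
    have heq : ∀ p : K[X], aeval (Red.gaFn x) p =
        x.left.appTop (eval₂RingHom (scl (Red.Ga (Spec (CommRingCat.of K)))) (Red.gaFn (𝟙 _)) p) := by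
      intro p
      rw [coe_eval₂RingHom, hom_eval₂, aeval_def]
      congr 1
      ext c
      exact (appTop_scl x c).symm
    exact (funext heq : (aeval (Red.gaFn x) : K[X] → B) = _) ▸ hb.comp (gaFn_eval_bijective K)
  obtain ⟨hinj, hsurj⟩ := rK_facts (K := K) G
  haveI : IsDomain B := (RingEquiv.ofBijective (aeval (Red.gaFn x) : K[X] →ₐ[K] B).toRingHom hv).symm.toMulEquiv.isDomain _
  haveI : IsDomain A := Function.Injective.isDomain (f := algebraMap A B) hinj
  obtain ⟨a₀, r, hr, ha₀⟩ := hsurj (Red.gaFn x)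
  have hRK := IsFractionRing.injective R K
  set c := algebraMap R K r
  have hc : c ≠ 0 := (map_ne_zero_iff _ hRK).mpr hr
  have hy : rK K G a₀ = scl (Red.bc (qK R K) G) c * Red.gaFn x := by rw [← ha₀, mul_comm]
  have hB : ∀ P : R[X], algebraMap A B (aeval a₀ P) = aeval (Red.gaFn x) ((P.map (algebraMap R K)).comp (C c * X)) := by
    intro P
    rw [← aeval_algebraMap_apply, show algebraMap A B a₀ = algebraMap K B c * Red.gaFn x from hy, aeval_comp,
      aeval_map_algebraMap, map_mul (aeval (Red.gaFn x)), aeval_C, aeval_X]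
  have hvX : Red.gaFn x ≠ 0 := fun h => X_ne_zero (hv.injective (a₁ := (X : K[X])) (a₂ := 0) (by rw [aeval_X, h, map_zero]))
  refine ⟨a₀, fun h => ?_, fun T g h => additive G x a₀ c hy g h, inferInstance, fun r r' h => ?_, fun P P' h => ?_,
    fun a => ?_⟩
  · rw [h, map_zero] at hy
    exact mul_ne_zero (fun h0 => hc ((algebraMap K B).injective (h0.trans (map_zero _).symm))) hvX hy.symm
  · have := congrArg (rK K G) h
    rw [rK_scl, rK_scl] at this
    exact hRK ((algebraMap K B).injective this)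
  · have h2 := hv.injective (((hB P).symm.trans (congrArg _ h)).trans (hB P'))
    have h3 := congrArg (fun Q : K[X] => Q.comp (C c⁻¹ * X)) h2
    simp only [comp_assoc, Polynomial.mul_comp, C_comp, X_comp, ← _root_.mul_assoc, ← C_mul, mul_inv_cancel₀ hc, C_1,
      _root_.one_mul, comp_X] at h3
    exact map_injective _ hRK h3
  · have hgen : ∀ z : B, ∃ (N : ℕ) (P : K[X]), z * algebraMap A B a₀ ^ N = aeval (algebraMap A B a₀) P := by
      intro z
      obtain ⟨Q, rfl⟩ := hv.surjective z
      refine ⟨0, Q.comp (C c⁻¹ * X), ?_⟩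
      rw [pow_zero, _root_.mul_one, show algebraMap A B a₀ = algebraMap K B c * Red.gaFn x from hy, aeval_comp,
        map_mul (aeval _), aeval_C, aeval_X, ← _root_.mul_assoc, ← map_mul, inv_mul_cancel₀ hc, map_one, _root_.one_mul]
    obtain ⟨Q, hQ⟩ := hv.surjective (algebraMap A B a)
    obtain ⟨b, hb, hP⟩ := IsLocalization.integerNormalization_spec (nonZeroDivisors R) (Q.comp (C c⁻¹ * X))
    refine ⟨IsLocalization.integerNormalization (nonZeroDivisors R) (Q.comp (C c⁻¹ * X)), b,
      nonZeroDivisors.ne_zero hb, ?_⟩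
    show algebraMap R A b * a = aeval a₀ _
    apply hinj
    show algebraMap A B _ = algebraMap A B _
    rw [hB, hP, ← IsScalarTower.algebraMap_smul K b, smul_comp, map_smul, comp_assoc, Polynomial.mul_comp, C_comp,
      X_comp, ← _root_.mul_assoc, ← C_mul, inv_mul_cancel₀ hc, C_1, _root_.one_mul, comp_X, hQ, map_mul,
      ← IsScalarTower.algebraMap_apply R A B, Algebra.smul_def, ← IsScalarTower.algebraMap_apply R K B]

/-- Points with values in flat rings are determined by the coordinate. -/
theorem hom_ext_coord (G : Over (Spec (CommRingCat.of R))) [IsAffine G.left] (y : Γ(G.left, ⊤))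
    (hgen : ∀ a, ∃ (P : R[X]) (b : R), b ≠ 0 ∧ scl G b * a = eval₂RingHom (scl G) y P)
    {T : Over (Spec (CommRingCat.of R))} [IsAffine T.left] [Flat T.hom] {g g' : T ⟶ G}
    (h : g.left.appTop y = g'.left.appTop y) : g = g' := by
  refine hom_ext_affine fun a => ?_
  obtain ⟨P, b, hb, hab⟩ := hgen a
  letI : Algebra R Γ(T.left, ⊤) := (scl T).toAlgebra
  haveI : Module.Flat R Γ(T.left, ⊤) := flat_scl T
  apply Module.Flat.isSMulRegular_of_nonZeroDivisors (M := Γ(T.left, ⊤)) (mem_nonZeroDivisors_of_ne_zero hb)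
  show b • _ = b • _
  rw [Algebra.smul_def, Algebra.smul_def]
  show scl T b * _ = scl T b * _
  rw [← appTop_scl g b, ← map_mul, hab, appTop_scl g, ← appTop_scl g' b, ← map_mul, hab, coe_eval₂RingHom,
    hom_eval₂, hom_eval₂, h]
  congr 1
  ext r
  exact (appTop_scl g r).trans (appTop_scl g' r).symm

/-- A map of affine schemes is an isomorphism over a basic open when the localisations agree. -/
theorem isIso_restrict_basicOpen {X Y : Scheme.{u}} [IsAffine X] [IsAffine Y] (f : X ⟶ Y) (h : Γ(Y, ⊤))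
    (hinj : Function.Injective f.appTop)
    (hsurj : ∀ z : Γ(X, ⊤), ∃ (M : ℕ) (a : Γ(Y, ⊤)), z * f.appTop h ^ M = f.appTop a) :
    IsIso (f ∣_ Y.basicOpen h) := by
  haveI : IsAffineHom f := isAffineHom_of_isAffine f
  have hU : IsAffineOpen (Y.basicOpen h) := (isAffineOpen_top Y).basicOpen h
  rw [isIso_morphismRestrict_iff_isIso_app f hU]
  haveI : IsLocalization.Away h Γ(Y, Y.basicOpen h) := (isAffineOpen_top Y).isLocalization_basicOpen h
  have hpre : f ⁻¹ᵁ Y.basicOpen h = X.basicOpen (f.appTop h) := Scheme.preimage_basicOpen_top f h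
  haveI : IsLocalization.Away (f.appTop h) Γ(X, X.basicOpen (f.appTop h)) :=
    (isAffineOpen_top X).isLocalization_basicOpen (f.appTop h)
  let φ : Γ(Y, Y.basicOpen h) →+* Γ(X, X.basicOpen (f.appTop h)) :=
    (f.appLE (Y.basicOpen h) (X.basicOpen (f.appTop h)) hpre.ge).hom
  have hφ : ∀ a : Γ(Y, ⊤), φ (algebraMap Γ(Y, ⊤) Γ(Y, Y.basicOpen h) a) =
      algebraMap Γ(X, ⊤) Γ(X, X.basicOpen (f.appTop h)) (f.appTop a) := fun a => by
    show (Y.presheaf.map _ ≫ f.appLE (Y.basicOpen h) (X.basicOpen (f.appTop h)) hpre.ge) a =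
      (f.appTop ≫ X.presheaf.map _) a
    rw [Scheme.Hom.map_appLE]
    rfl
  have hφb : Function.Bijective φ := by
    constructor
    · rw [injective_iff_map_eq_zero]
      intro z hz
      obtain ⟨⟨a, _, n, rfl⟩, ha⟩ := IsLocalization.surj (Submonoid.powers h) z
      have h1 := congrArg φ ha
      rw [map_mul, hz, zero_mul, hφ] at h1
      obtain ⟨⟨_, m, rfl⟩, hm⟩ := (IsLocalization.map_eq_zero_iff (Submonoid.powers (f.appTop h))
        Γ(X, X.basicOpen (f.appTop h)) _).mp h1.symm
      have hm' : h ^ m * a = 0 := hinj (by rw [map_mul, map_pow, map_zero]; exact hm)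
      have h2 : algebraMap Γ(Y, ⊤) Γ(Y, Y.basicOpen h) a = 0 :=
        (IsLocalization.map_eq_zero_iff (Submonoid.powers h) _ a).mpr ⟨⟨_, m, rfl⟩, hm'⟩
      rw [h2] at ha
      exact (IsLocalization.map_units Γ(Y, Y.basicOpen h) (⟨_, n, rfl⟩ : Submonoid.powers h)).mul_left_eq_zero.mp ha
    · intro z
      obtain ⟨⟨z₀, _, n, rfl⟩, hz⟩ := IsLocalization.surj (Submonoid.powers (f.appTop h)) z
      obtain ⟨M, a, hMa⟩ := hsurj z₀
      refine ⟨IsLocalization.mk' _ a (⟨h ^ (n + M), n + M, rfl⟩ : Submonoid.powers h), ?_⟩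
      have hu := (IsLocalization.map_units Γ(Y, Y.basicOpen h) (⟨h ^ (n + M), n + M, rfl⟩ : Submonoid.powers h)).map φ
      apply hu.mul_left_injective
      show φ _ * φ _ = z * φ _
      rw [← map_mul, IsLocalization.mk'_spec, hφ, hφ, map_pow, ← hMa, map_mul, ← hz, _root_.mul_assoc, ← map_mul,
        ← pow_add]
  have : IsIso (f.appLE (Y.basicOpen h) (X.basicOpen (f.appTop h)) hpre.ge) :=
    (ConcreteCategory.isIso_iff_bijective _).mpr hφb
  have e : f.app (Y.basicOpen h) = f.appLE (Y.basicOpen h) (X.basicOpen (f.appTop h)) hpre.ge ≫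
      X.presheaf.map (eqToHom hpre).op := by
    rw [Scheme.Hom.appLE_map, Scheme.Hom.app_eq_appLE]
  rw [e]
  infer_instance

theorem exists_open_immersion_and_exponent {K : Type u} [Field K] [Algebra R K] [IsFractionRing R K]
    [IsAdicComplete (IsLocalRing.maximalIdeal R) R] [IsAlgClosed (IsLocalRing.ResidueField R)]
    (p : ℕ) (hp : (p : IsLocalRing.ResidueField R) = 0)
    (G : Over (Spec (CommRingCat.of R))) [GrpObj G] [Smooth G.hom] [IsAffineHom G.hom]
    (e : Red.bc (qK R K) G ≅ Red.Ga (Spec (CommRingCat.of K))) [IsMonHom e.hom] :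
    (∃ M : ℕ, ∀ x : (Over.map (Spec.map (CommRingCat.ofHom (IsLocalRing.residue R)))).obj
        (𝟙_ (Over (Spec (CommRingCat.of (IsLocalRing.ResidueField R))))) ⟶ G, x ^ (p ^ M) = 1) ∧
      ∃ j : Red.Ga (Spec (CommRingCat.of R)) ⟶ G, IsMonHom j ∧ IsOpenImmersion j.left := by
  haveI : IsAffine G.left := isAffine_of_isAffineHom G.hom
  haveI : LocallyOfFiniteType G.hom := inferInstance
  obtain ⟨y, hy0, hadd, hdom, hscl, hfree, hgen⟩ := exists_additive_coord G e
  let A := Γ(G.left, ⊤)
  letI : Algebra R A := (scl G).toAlgebra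
  haveI : IsDomain A := hdom
  haveI : IsNoetherianRing A := by
    haveI : Algebra.FiniteType R A := finiteType_scl G
    exact Algebra.FiniteType.isNoetherianRing R A
  haveI : Algebra.Smooth R A := by
    have h : G.hom.appTop.hom.Smooth := HasRingHomProperty.appTop @Smooth G.hom ‹_›
    have h2 : (scl G).Smooth := (RingHom.Smooth.of_bijective
      (ConcreteCategory.bijective_of_isIso (Scheme.ΓSpecIso (CommRingCat.of R)).inv)).comp h
    exact h2.toAlgebra
  let ioR := Scheme.ΓSpecIso (CommRingCat.of R)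
  have hioR : ∀ z, ioR.hom (ioR.inv z) = z := fun z => by
    rw [← CommRingCat.comp_apply, Iso.inv_hom_id, CommRingCat.id_apply]
  have hioR' : ∀ z, ioR.inv (ioR.hom z) = z := fun z => by
    rw [← CommRingCat.comp_apply, Iso.hom_inv_id, CommRingCat.id_apply]
  have hscl1 : ∀ z, scl (𝟙_ (Over (Spec (CommRingCat.of R)))) z = ioR.inv z := fun z => by
    show (Scheme.Hom.appTop (𝟙 (Spec (CommRingCat.of R)))) (ioR.inv z) = _
    rw [Scheme.Hom.id_appTop, CommRingCat.id_apply]
  let ev : A →ₐ[R] R :=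
    { (ioR.hom.hom.comp (1 : 𝟙_ (Over (Spec (CommRingCat.of R))) ⟶ G).left.appTop.hom : A →+* R) with
      commutes' := fun r => by
        show ioR.hom ((1 : 𝟙_ (Over (Spec (CommRingCat.of R))) ⟶ G).left.appTop (scl G r)) = r
        rw [appTop_scl, hscl1, hioR] }
  have hevy : ev y = 0 := by
    have h := hadd _ (1 : 𝟙_ (Over (Spec (CommRingCat.of R))) ⟶ G) 1
    rw [_root_.one_mul] at h
    exact (congrArg ioR.hom (left_eq_add.mp h)).trans (map_zero ioR.hom.hom)
  obtain ⟨s, h₀, c₀, hs, hevh, hyh, hQ⟩ := exists_scale ev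
    (isReduced_quotient_map R A (IsLocalRing.maximalIdeal R)) hscl y hevy hy0 hgen
  choose Pf bf hbf hPf using hgen
  choose Jf hJf using fun a : A => hQ a (bf a) (Pf a) (hbf a) (hPf a)
  have hJ : ∀ (a : A) (b : R) (P : R[X]), scl G b * a = eval₂RingHom (scl G) y P → C b * Jf a = P.comp (C s * X) := by
    intro a b P hab
    have h1 : eval₂RingHom (scl G) y (C (bf a) * P) = eval₂RingHom (scl G) y (C b * Pf a) := by
      rw [map_mul, map_mul, ← hab, show eval₂RingHom (scl G) y (Pf a) = scl G (bf a) * a from (hPf a).symm,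
        coe_eval₂RingHom, eval₂_C, eval₂_C]
      ring
    have h2 := congrArg (fun Q : R[X] => Q.comp (C s * X)) (hfree h1)
    simp only [Polynomial.mul_comp, C_comp] at h2
    rw [← hJf, ← _root_.mul_assoc, ← C_mul, mul_comm b, C_mul, _root_.mul_assoc] at h2
    exact (mul_left_cancel₀ (C_ne_zero.mpr (hbf a)) h2).symm
  have hPf' : ∀ a, scl G (bf a) * a = eval₂RingHom (scl G) y (Pf a) := hPf
  have hJs : ∀ r, Jf (scl G r) = C r := fun r => by
    have := hJ (scl G r) 1 (C r) (by rw [map_one, _root_.one_mul, coe_eval₂RingHom, eval₂_C])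
    simpa using this
  have hJy : Jf y = C s * X := by
    have := hJ y 1 X (by rw [map_one, _root_.one_mul, coe_eval₂RingHom, eval₂_X])
    simpa using this
  have hJmul : ∀ a b, Jf (a * b) = Jf a * Jf b := fun a b => by
    have := hJ (a * b) (bf a * bf b) (Pf a * Pf b) (by rw [map_mul, map_mul, ← hPf', ← hPf']; ring)
    rw [Polynomial.mul_comp, ← hJ a _ _ (hPf' a), ← hJ b _ _ (hPf' b), C_mul] at this
    exact mul_left_cancel₀ (mul_ne_zero (C_ne_zero.mpr (hbf a)) (C_ne_zero.mpr (hbf b))) (this.trans (by ring))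
  have hJadd : ∀ a b, Jf (a + b) = Jf a + Jf b := fun a b => by
    have := hJ (a + b) (bf a * bf b) (C (bf b) * Pf a + C (bf a) * Pf b) (by
      rw [map_add, map_mul, map_mul, map_mul, ← hPf', ← hPf', coe_eval₂RingHom, eval₂_C, eval₂_C]; ring)
    rw [add_comp, Polynomial.mul_comp, Polynomial.mul_comp, C_comp, C_comp, ← hJ a _ _ (hPf' a),
      ← hJ b _ _ (hPf' b), C_mul] at this
    exact mul_left_cancel₀ (mul_ne_zero (C_ne_zero.mpr (hbf a)) (C_ne_zero.mpr (hbf b))) (this.trans (by ring))
  let J : A →+* R[X] :=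
    { toFun := Jf
      map_one' := by simpa using hJs 1
      map_zero' := by simpa using hJs 0
      map_mul' := hJmul
      map_add' := hJadd }
  have hJinj : Function.Injective J := by
    rw [injective_iff_map_eq_zero]
    intro a ha
    have h1 := hJ a _ _ (hPf' a)
    rw [show Jf a = 0 from ha, MulZeroClass.mul_zero] at h1
    rcases comp_eq_zero_iff.mp h1.symm with h | ⟨-, h⟩
    · have h2 := hPf' a
      rw [h, map_zero] at h2
      exact (mul_eq_zero.mp h2).resolve_left ((map_ne_zero_iff _ hscl).mpr (hbf a))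
    · exfalso
      have := congrArg (fun q : R[X] => q.coeff 1) h
      simp at this
      exact hs this
  have hJev : ∀ a, (J a).eval 0 = ev a := fun a => by
    have h1 := congrArg (eval 0) (hJ a _ _ (hPf' a))
    have h2 := congrArg ev (hPf' a)
    rw [eval_mul, eval_C, eval_comp, eval_mul, eval_X, MulZeroClass.mul_zero] at h1
    rw [map_mul, coe_eval₂RingHom, show ev (eval₂ (scl G) y (Pf a)) = eval (ev y) (Pf a) from
      (aeval_algHom_apply ev y (Pf a)).symm.trans (by rw [coe_aeval_eq_eval]), hevy] at h2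
    rw [show ev (scl G (bf a)) = bf a from ev.commutes _, ← h1] at h2
    exact (mul_left_cancel₀ (hbf a) h2).symm
  let Γa := Red.Ga (Spec (CommRingCat.of R))
  haveI : Smooth Γa.hom := NoTorus14.smooth_Ga _
  haveI : IsAffine Red.GaZ.{u}.left := inferInstanceAs (IsAffine (Spec (CommRingCat.of _)))
  haveI : IsAffineHom Red.GaZ.{u}.hom := isAffineHom_of_isAffine _
  haveI : IsAffine Γa.left := inferInstanceAs (IsAffine (pullback _ _))
  haveI : IsAffineHom Γa.hom := isAffineHom_of_isAffine _
  let ψ := eval₂RingHom (scl Γa) (Red.gaFn (𝟙 Γa))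
  have hψ : Function.Bijective ψ := gaFn_eval_bijective R
  obtain ⟨j, hj⟩ := exists_pt Γa (ψ.comp J) (by
    ext r
    show ψ (Jf (scl G r)) = scl Γa r
    rw [hJs]
    exact eval₂_C _ _)
  have hjy : ∀ {T : Over (Spec (CommRingCat.of R))} (g : T ⟶ Γa), (g ≫ j).left.appTop y = scl T s * Red.gaFn g := by
    intro T g
    rw [Over.comp_left, GmPts.appTop_comp_apply, hj]
    show g.left.appTop (ψ (Jf y)) = _
    rw [hJy, map_mul, coe_eval₂RingHom, eval₂_C, eval₂_X, map_mul, appTop_scl, ← RedPts.gaFn_comp, Category.comp_id]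
  have hgen' : ∀ a, ∃ (P : R[X]) (b : R), b ≠ 0 ∧ scl G b * a = eval₂RingHom (scl G) y P :=
    fun a => ⟨Pf a, bf a, hbf a, hPf' a⟩
  have h1y : ∀ T : Over (Spec (CommRingCat.of R)), (1 : T ⟶ G).left.appTop y = 0 := fun T => by
    have h := hadd T 1 1
    rw [_root_.one_mul] at h
    exact left_eq_add.mp h
  haveI hjm : IsMonHom j := by
    refine ⟨?_, ?_⟩
    · show η[Γa] ≫ j = η[G]
      have h1 : η[Γa] = (1 : 𝟙_ (Over (Spec (CommRingCat.of R))) ⟶ Γa) := by rw [Hom.one_def]; simp
      have h2 : η[G] = (1 : 𝟙_ (Over (Spec (CommRingCat.of R))) ⟶ G) := by rw [Hom.one_def]; simp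
      rw [h1, h2]
      haveI : IsAffine (𝟙_ (Over (Spec (CommRingCat.of R)))).left := inferInstanceAs (IsAffine (Spec (CommRingCat.of R)))
      haveI : Flat (𝟙_ (Over (Spec (CommRingCat.of R)))).hom := inferInstanceAs (Flat (𝟙 (Spec (CommRingCat.of R))))
      refine hom_ext_coord G y hgen' ?_
      rw [hjy, RedPts.gaFn_one, MulZeroClass.mul_zero, h1y]
    · show μ[Γa] ≫ j = (j ⊗ₘ j) ≫ μ[G]
      have h1 : μ[Γa] = fst Γa Γa * snd Γa Γa := by rw [Hom.mul_def, lift_fst_snd, Category.id_comp]
      have h2 : (j ⊗ₘ j) ≫ μ[G] = (fst Γa Γa ≫ j) * (snd Γa Γa ≫ j) := by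
        rw [Hom.mul_def]; congr 1
      rw [h1, h2]
      haveI : IsAffine (Γa ⊗ Γa).left := inferInstanceAs (IsAffine (pullback Γa.hom Γa.hom))
      haveI : Flat (Γa ⊗ Γa).hom := inferInstanceAs (Flat (pullback.fst Γa.hom Γa.hom ≫ Γa.hom))
      refine hom_ext_coord G y hgen' ?_
      rw [hjy, hadd, hjy, hjy, RedPts.gaFn_mul, mul_add]
  constructor
  · -- the exponent
    obtain ⟨ϖ, hϖ⟩ := IsDiscreteValuationRing.exists_irreducible R
    obtain ⟨n, u, hsu⟩ := IsDiscreteValuationRing.eq_unit_mul_pow_irreducible hs hϖ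
    have hpm : (p : R) ∈ IsLocalRing.maximalIdeal R := by
      rw [← IsLocalRing.residue_eq_zero_iff, map_natCast]; exact hp
    refine ⟨n + 1, fun x => ?_⟩
    let T₀ := (Over.map (Spec.map (CommRingCat.ofHom (IsLocalRing.residue R)))).obj
      (𝟙_ (Over (Spec (CommRingCat.of (IsLocalRing.ResidueField R)))))
    let io := Scheme.ΓSpecIso (CommRingCat.of (IsLocalRing.ResidueField R))
    have hT₀ : ∀ r, scl T₀ r = io.inv (IsLocalRing.residue R r) := fun r => by
      show ((𝟙 (Spec (CommRingCat.of (IsLocalRing.ResidueField R)))) ≫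
        Spec.map (CommRingCat.ofHom (IsLocalRing.residue R))).appTop (ioR.inv r) = _
      rw [Category.id_comp]
      exact (congr($(Scheme.ΓSpecIso_inv_naturality (CommRingCat.ofHom (IsLocalRing.residue R))) r)).symm
    have hio : ∀ z, io.hom (io.inv z) = z := fun z => by
      rw [← CommRingCat.comp_apply, Iso.inv_hom_id, CommRingCat.id_apply]
    have hio' : ∀ z, io.inv (io.hom z) = z := fun z => by
      rw [← CommRingCat.comp_apply, Iso.hom_inv_id, CommRingCat.id_apply]
    let σ : A →ₐ[R] R ⧸ IsLocalRing.maximalIdeal R :=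
      { (io.hom.hom.comp x.left.appTop.hom : A →+* IsLocalRing.ResidueField R) with
        commutes' := fun r => by
          show io.hom (x.left.appTop (scl G r)) = IsLocalRing.residue R r
          rw [appTop_scl, hT₀, hio] }
    haveI : HenselianRing R (IsLocalRing.maximalIdeal R) := inferInstance
    obtain ⟨τ, hτ⟩ := Hensel.exists_algHom_lift_of_smooth (R := R) (A := R) (I := IsLocalRing.maximalIdeal R) σ
    obtain ⟨g, hg⟩ := exists_pt (𝟙_ (Over (Spec (CommRingCat.of R)))) (ioR.inv.hom.comp τ.toRingHom) (by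
      ext r
      exact (congrArg ioR.inv (τ.commutes r)).trans (hscl1 r).symm)
    have hgx : toUnit T₀ ≫ g = x := hom_ext_affine fun a => by
      rw [Over.comp_left, GmPts.appTop_comp_apply, hg]
      show (toUnit T₀).left.appTop (ioR.inv (τ a)) = _
      rw [← hscl1, appTop_scl, hT₀]
      exact (congrArg io.inv (AlgHom.congr_fun hτ a)).trans (hio' _)
    have hgn : ∀ N : ℕ, (g ^ N).left.appTop y = N * g.left.appTop y ∧ toUnit T₀ ≫ g ^ N = x ^ N := by
      intro N
      induction N with
      | zero => exact ⟨by rw [pow_zero, h1y, Nat.cast_zero, MulZeroClass.zero_mul], by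
          rw [pow_zero, pow_zero, MonObj.comp_one]⟩
      | succ N ih => exact ⟨by rw [pow_succ, hadd, ih.1, Nat.cast_succ, add_mul, _root_.one_mul], by
          rw [pow_succ, pow_succ, MonObj.comp_mul, ih.2, hgx]⟩
    obtain ⟨z, hz, hze⟩ : ∃ z ∈ IsLocalRing.maximalIdeal R, (p : R) ^ (n + 1) * τ y = s * z := by
      rw [hϖ.maximalIdeal_eq, Ideal.mem_span_singleton] at hpm
      obtain ⟨q, hq⟩ := hpm
      refine ⟨(↑u⁻¹ : R) * (ϖ * q ^ (n + 1) * τ y), ?_, ?_⟩
      · rw [hϖ.maximalIdeal_eq, Ideal.mem_span_singleton]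
        exact Dvd.dvd.mul_left ((dvd_mul_right ϖ _).mul_right _) _
      · rw [hq, hsu, _root_.mul_mul_mul_comm, Units.mul_inv]; ring
    let zp : 𝟙_ (Over (Spec (CommRingCat.of R))) ⟶ Γa := RedPts.gaPt (ioR.inv z)
    haveI : IsAffine (𝟙_ (Over (Spec (CommRingCat.of R)))).left := inferInstanceAs (IsAffine (Spec (CommRingCat.of R)))
    haveI : Flat (𝟙_ (Over (Spec (CommRingCat.of R)))).hom := inferInstanceAs (Flat (𝟙 (Spec (CommRingCat.of R))))
    have heq : g ^ (p ^ (n + 1)) = zp ≫ j := by
      refine hom_ext_coord G y hgen' ?_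
      rw [(hgn _).1, hjy, RedPts.gaFn_gaPt, hg, hscl1]
      show ((p ^ (n + 1) : ℕ) : _) * ioR.inv (τ y) = ioR.inv s * ioR.inv z
      rw [← map_natCast ioR.inv.hom]
      erw [← map_mul ioR.inv.hom, ← map_mul ioR.inv.hom]
      rw [Nat.cast_pow, hze]
    rw [← (hgn _).2, heq, ← Category.assoc,
      show toUnit T₀ ≫ zp = (1 : T₀ ⟶ Γa) from RedPts.gaFn_injective (by
        rw [RedPts.gaFn_comp, RedPts.gaFn_gaPt, RedPts.gaFn_one, ← hscl1, appTop_scl, hT₀,
          (IsLocalRing.residue_eq_zero_iff _).mpr hz, map_zero]),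
      MonObj.one_comp]
  · -- open immersion
    refine ⟨j, hjm, ?_⟩
    haveI : IsAffineHom j.left := isAffineHom_of_isAffine _
    have hjinj : Function.Injective j.left.appTop := fun a b hab => hJinj (hψ.injective (by
      have := hab; rw [hj, hj] at this; exact this))
    have hloc : ∀ hh cc : A, J cc = J hh * X → IsIso (j.left ∣_ G.left.basicOpen hh) := by
      intro hh cc hcc
      refine isIso_restrict_basicOpen j.left hh hjinj fun z => ?_
      obtain ⟨P, rfl⟩ := hψ.surjective z
      suffices ∀ P : R[X], ∃ (M : ℕ) (a : A), P * J hh ^ M = J a by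
        obtain ⟨M, a, hMa⟩ := this P
        refine ⟨M, a, ?_⟩
        rw [hj, hj]
        show ψ P * ψ (J hh) ^ M = ψ (J a)
        rw [← map_pow, ← map_mul, hMa]
      intro P
      induction P using Polynomial.induction_on' with
      | add P Q hP hQ =>
        obtain ⟨M, a, ha⟩ := hP
        obtain ⟨N, b, hb⟩ := hQ
        refine ⟨M + N, a * hh ^ N + b * hh ^ M, ?_⟩
        rw [map_add, map_mul, map_mul, map_pow, map_pow, ← ha, ← hb, pow_add]; ring
      | monomial i r =>
        refine ⟨i, scl G r * cc ^ i, ?_⟩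
        rw [map_mul, map_pow, show J (scl G r) = C r from hJs r, hcc, ← C_mul_X_pow_eq_monomial, mul_pow]; ring
    -- translations
    have htr : ∀ r : R, ∃ hh cc : A, J cc = J hh * X ∧ (J hh).eval r = ev h₀ := by
      intro r
      let w : 𝟙_ (Over (Spec (CommRingCat.of R))) ⟶ Γa := RedPts.gaPt (ioR.inv (-r))
      let τG : G ⟶ G := (toUnit G ≫ w ≫ j) * 𝟙 G
      let τA : Γa ⟶ Γa := (toUnit Γa ≫ w) * 𝟙 Γa
      have hcomm : j ≫ τG = τA ≫ j := by
        rw [MonObj.comp_mul, Category.comp_id, MonObj.mul_comp, Category.id_comp, ← Category.assoc j,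
          toUnit_unique (j ≫ toUnit G) (toUnit Γa), Category.assoc]
      have hτA : ∀ P : R[X], τA.left.appTop (ψ P) = ψ (P.comp (X - C r)) := by
        have e : τA.left.appTop.hom.comp ψ = ψ.comp (compRingHom (X - C r)) := by
          apply Polynomial.ringHom_ext
          · intro a
            simp only [RingHom.comp_apply, ψ, coe_eval₂RingHom, eval₂_C, coe_compRingHom, C_comp]
            exact appTop_scl τA a
          · simp only [RingHom.comp_apply, ψ, coe_eval₂RingHom, eval₂_X, coe_compRingHom, X_comp]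
            rw [← RedPts.gaFn_comp, Category.comp_id, RedPts.gaFn_mul, RedPts.gaFn_comp, RedPts.gaFn_gaPt, ← hscl1,
              appTop_scl, eval₂_sub, eval₂_X, eval₂_C, map_neg]
            ring
        exact fun P => congr($e P)
      have hJτ : ∀ a, J (τG.left.appTop a) = (J a).comp (X - C r) := fun a => hψ.injective (by
        rw [← hτA, show ψ (J (τG.left.appTop a)) = j.left.appTop (τG.left.appTop a) from (hj _).symm,
          show ψ (J a) = j.left.appTop a from (hj _).symm, ← GmPts.appTop_comp_apply, ← GmPts.appTop_comp_apply,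
          ← Over.comp_left, ← Over.comp_left, hcomm])
      have hJc : J c₀ = J h₀ * X := by
        have h1 := congrArg J hyh
        rw [map_mul, map_mul, show J y = C s * X from hJy, show J (algebraMap R A s) = C s from hJs s,
          _root_.mul_assoc] at h1
        exact ((mul_left_cancel₀ (C_ne_zero.mpr hs) h1).symm).trans (mul_comm _ _)
      refine ⟨τG.left.appTop h₀, τG.left.appTop c₀ + scl G r * τG.left.appTop h₀, ?_, ?_⟩
      · rw [map_add, map_mul, hJτ, hJτ, hJc, show J (scl G r) = C r from hJs r, Polynomial.mul_comp, X_comp]; ring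
      · rw [hJτ, eval_comp, eval_sub, eval_X, eval_C, sub_self, hJev]
    choose hh cc hhc hhe using htr
    let U : Option R → G.left.Opens := fun o => o.elim (G.left.basicOpen (scl G s)) fun r => G.left.basicOpen (hh r)
    refine IsZariskiLocalAtTarget.of_range_subset_iSup (P := @IsOpenImmersion) U ?_ ?_
    · rintro _ ⟨q, rfl⟩
      rw [SetLike.mem_coe, TopologicalSpace.Opens.mem_iSup]
      by_contra hne
      push Not at hne
      let 𝔮 : Ideal R[X] := ((isAffineOpen_top Γa.left).primeIdealOf ⟨q, trivial⟩).asIdeal.comap ψ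
      have hmem : ∀ a : A, j.left.base q ∉ G.left.basicOpen a → J a ∈ 𝔮 := by
        intro a ha
        have h1 : q ∉ Γa.left.basicOpen (j.left.appTop a) := by
          rw [← Scheme.preimage_basicOpen_top]; exact ha
        rw [hj] at h1
        rw [Ideal.mem_comap]
        by_contra h2
        apply h1
        have h3 : (isAffineOpen_top Γa.left).primeIdealOf ⟨q, trivial⟩ ∈ PrimeSpectrum.basicOpen (ψ (J a)) := h2
        have h4 : (isAffineOpen_top Γa.left).fromSpec ((isAffineOpen_top Γa.left).primeIdealOf ⟨q, trivial⟩) = q :=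
          (isAffineOpen_top Γa.left).fromSpec_primeIdealOf ⟨q, trivial⟩
        rw [← h4]
        show _ ∈ (isAffineOpen_top Γa.left).fromSpec ⁻¹ᵁ Γa.left.basicOpen ((ψ.comp J) a)
        rw [IsAffineOpen.fromSpec_preimage_basicOpen]
        exact h3
      have hsq : C s ∈ 𝔮 := (hJs s) ▸ hmem _ (hne none)
      haveI : 𝔮.IsPrime := Ideal.IsPrime.comap _
      obtain ⟨ϖ, hϖ⟩ := IsDiscreteValuationRing.exists_irreducible R
      have hϖq : C ϖ ∈ 𝔮 := by
        obtain ⟨n, u, hsu⟩ := IsDiscreteValuationRing.eq_unit_mul_pow_irreducible hs hϖ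
        rw [hsu, C_mul, C_pow] at hsq
        rcases Ideal.IsPrime.mem_or_mem ‹_› hsq with hu | hp
        · exact absurd (Ideal.eq_top_of_isUnit_mem _ hu (isUnit_C.mpr u.isUnit)) (Ideal.IsPrime.ne_top ‹_›)
        · exact Ideal.IsPrime.mem_of_pow_mem ‹_› n hp
      obtain ⟨𝔪, h𝔪, hle⟩ := Ideal.exists_le_maximal 𝔮 (Ideal.IsPrime.ne_top ‹_›)
      have hker : RingHom.ker (mapRingHom (IsLocalRing.residue R)) ≤ 𝔪 := by
        rw [Polynomial.ker_mapRingHom, IsLocalRing.ker_residue, hϖ.maximalIdeal_eq, Ideal.map_span, Set.image_singleton,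
          Ideal.span_singleton_le_iff_mem]
        exact hle hϖq
      have hsur : Function.Surjective (mapRingHom (IsLocalRing.residue R)) :=
        Polynomial.map_surjective _ IsLocalRing.residue_surjective
      haveI h𝔫 : (𝔪.map (mapRingHom (IsLocalRing.residue R))).IsMaximal := by
        refine (Ideal.map_eq_top_or_isMaximal_of_surjective _ hsur h𝔪).resolve_left fun htop => ?_
        apply h𝔪.ne_top
        have h5 := Ideal.comap_map_of_surjective _ hsur 𝔪
        rw [htop, Ideal.comap_top] at h5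
        exact (h5.trans (sup_eq_left.mpr hker)).symm
      obtain ⟨g, hg⟩ := IsPrincipalIdealRing.principal (𝔪.map (mapRingHom (IsLocalRing.residue R)))
      have hg' : 𝔪.map (mapRingHom (IsLocalRing.residue R)) = Ideal.span {g} := hg
      have hgu : ¬ IsUnit g := fun hu => h𝔫.ne_top (by rw [hg', Ideal.span_singleton_eq_top.mpr hu])
      have hdeg : g.degree ≠ 0 := fun hd => hgu (isUnit_iff_degree_eq_zero.mpr hd)
      obtain ⟨ρ, hρ⟩ := IsAlgClosed.exists_root g hdeg
      obtain ⟨r, rfl⟩ := IsLocalRing.residue_surjective ρ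
      have h1 := hle (hmem _ (hne (some r)))
      have h2 := Ideal.mem_map_of_mem (mapRingHom (IsLocalRing.residue R)) h1
      rw [hg', Ideal.mem_span_singleton] at h2
      have h3 : (Polynomial.map (IsLocalRing.residue R) (J (hh r))).eval (IsLocalRing.residue R r) = 0 :=
        eval_eq_zero_of_dvd_of_eval_eq_zero h2 hρ
      rw [Polynomial.eval_map, eval₂_at_apply, hhe, IsLocalRing.residue_eq_zero_iff] at h3
      exact (IsLocalRing.mem_maximalIdeal _).mp h3 hevh
    · rintro (_ | r)
      · haveI : IsIso (j.left ∣_ U none) := hloc (scl G s) y (by rw [show J (scl G s) = C s from hJs s]; exact hJy)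
        exact inferInstance
      · haveI : IsIso (j.left ∣_ U (some r)) := hloc (hh r) (cc r) (hhc r)
        exact inferInstance

end GrothLib.GaModel15
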