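import Groth.Agent.Lib.GaModel15.Points
import Groth.Prelude.Def_GmPts

/-!
# The coordinate ring of the multiplicative group
-/

set_option autoImplicit false
set_option linter.all false
set_option backward.isDefEq.respectTransparency false
set_option maxHeartbeats 1000000

universe u

open CategoryTheory CategoryTheory.Limits MonoidalCategory CartesianMonoidalCategory MonObj GrpObj AlgebraicGeometry
open Polynomial

noncomputable section

namespace GrothLib.GaModel15

attribute [-instance] Hom.commGroup Hom.commMonoid CommGrpObj.toIsCommMonObj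

variable (R : Type u) [CommRing R]

/-- Functions on the multiplicative group are Laurent polynomials in the coordinate. -/
theorem gmFn_facts :
    Function.Injective (eval₂RingHom (scl (Red.Gm (Spec (CommRingCat.of R)))) (Red.gmFn (𝟙 (Red.Gm (Spec (CommRingCat.of R)))))) ∧
      (∀ z, ∃ (N : ℕ) (P : R[X]), z * Red.gmFn (𝟙 (Red.Gm (Spec (CommRingCat.of R)))) ^ N =
        eval₂RingHom (scl (Red.Gm (Spec (CommRingCat.of R)))) (Red.gmFn (𝟙 (Red.Gm (Spec (CommRingCat.of R))))) P) ∧
      (IsDomain R → ConnectedSpace (Red.Gm (Spec (CommRingCat.of R))).left) := by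
  set Γm := Red.Gm (Spec (CommRingCat.of R))
  let L := Localization.Away (X : R[X])
  let iL : R[X] →+* L := algebraMap R[X] L
  let io := Scheme.ΓSpecIso (CommRingCat.of L)
  let P₀ : Over (Spec (CommRingCat.of R)) := Over.mk (Spec.map (CommRingCat.ofHom (iL.comp (C : R →+* R[X]))))
  haveI : IsAffine P₀.left := inferInstanceAs (IsAffine (Spec (CommRingCat.of L)))
  have hs : ∀ r, scl P₀ r = io.inv (iL (C r)) := fun r =>
    (congrArg (fun ψ => (ConcreteCategory.hom ψ) r) (Scheme.ΓSpecIso_inv_naturality (CommRingCat.ofHom (iL.comp (C : R →+* R[X]))))).symm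
  let g := Red.gmFn (𝟙 Γm)
  let ψ := eval₂RingHom (scl Γm) g
  have hψX : IsUnit (ψ X) := by
    rw [coe_eval₂RingHom, eval₂_X]; exact GmPts.isUnit_gmFn _
  let ψL : L →+* Γ(Γm.left, ⊤) := IsLocalization.Away.lift (X : R[X]) hψX
  have hψL : ∀ p, ψL (iL p) = ψ p := fun p => IsLocalization.Away.lift_eq _ hψX p
  have hio : ∀ p : L, io.hom (io.inv p) = p := fun p => by
    rw [← CommRingCat.comp_apply, Iso.inv_hom_id, CommRingCat.id_apply]
  obtain ⟨u, hu⟩ := exists_pt (W := P₀) Γm (ψL.comp io.hom.hom) (by
    ext r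
    simp only [RingHom.comp_apply, hs]
    erw [hio, hψL]
    exact eval₂_C _ _)
  have hX : IsUnit (io.inv (iL X)) := (IsLocalization.Away.algebraMap_isUnit (X : R[X])).map io.inv.hom
  let v : P₀ ⟶ Γm := GmPts.ptOfUnit hX.unit
  have huv : u ≫ v = 𝟙 Γm := GmPts.gmFn_injective (by
    show Red.gmFn (u ≫ v) = Red.gmFn (𝟙 Γm)
    rw [GmPts.gmFn_comp, GmPts.gmFn_ptOfUnit, IsUnit.unit_spec]
    refine (hu _).trans ?_
    simp only [RingHom.comp_apply]
    erw [hio, hψL]
    exact eval₂_X _ _)
  have hv : ∀ p : R[X], v.left.appTop (ψ p) = io.inv (iL p) := by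
    have e : v.left.appTop.hom.comp ψ = io.inv.hom.comp iL := by
      apply Polynomial.ringHom_ext
      · intro r
        simp only [RingHom.comp_apply, ψ, coe_eval₂RingHom, eval₂_C]
        rw [appTop_scl, hs]
        rfl
      · simp only [RingHom.comp_apply, ψ, coe_eval₂RingHom, eval₂_X, g]
        rw [← GmPts.gmFn_comp, Category.comp_id, GmPts.gmFn_ptOfUnit, IsUnit.unit_spec]
        rfl
    exact fun p => congr($e p)
  have hiL : Function.Injective iL := IsLocalization.injective L (M := Submonoid.powers (X : R[X])) (by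
    rintro _ ⟨n, rfl⟩
    exact pow_mem (mem_nonZeroDivisors_iff_right.mpr fun p hp => by
      ext i
      have := congrArg (fun q : R[X] => q.coeff (i + 1)) hp
      simpa [coeff_mul_X] using this) n)
  refine ⟨fun a b h => hiL ?_, fun z => ?_, fun hR => ?_⟩
  · have := congrArg (fun z => io.hom (v.left.appTop z)) h
    change io.hom (v.left.appTop (ψ a)) = io.hom (v.left.appTop (ψ b)) at this
    rwa [hv, hv, hio, hio] at this
  · obtain ⟨⟨p, _, n, rfl⟩, hp⟩ := IsLocalization.surj (Submonoid.powers (X : R[X])) (io.hom (v.left.appTop z))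
    refine ⟨n, p, ?_⟩
    have hz := hu (v.left.appTop z)
    rw [← GmPts.appTop_comp_apply, ← Over.comp_left, huv, Over.id_left, Scheme.Hom.id_appTop, CommRingCat.id_apply] at hz
    have h2 := congrArg ψL hp
    rw [map_mul, hψL, hψL, map_pow, coe_eval₂RingHom, eval₂_X] at h2
    rw [hz]
    exact h2
  · haveI : IsDomain L := IsLocalization.isDomain_localization (M := Submonoid.powers (X : R[X]))
      (powers_le_nonZeroDivisors_of_noZeroDivisors X_ne_zero)
    haveI : IsIntegral P₀.left := inferInstanceAs (IsIntegral (Spec (CommRingCat.of L)))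
    have hsur : Function.Surjective v.left.base := fun x => ⟨u.left.base x, by
      rw [← Scheme.Hom.comp_apply, ← Over.comp_left, huv]; rfl⟩
    exact hsur.connectedSpace v.left.continuous

end GrothLib.GaModel15
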