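import Groth.Agent.Lib.GaModel15.Main
import Groth.Agent.Lib.GaModel15.AlgebraGm
import Groth.Agent.Lib.GaModel15.PointsGm
import Groth.Agent.Lib.DiagGrp.Points
import Groth.Agent.Lib.Hensel.SmoothLift

/-!
# Smooth affine models of the multiplicative group with multiplicative special fibre
-/

set_option autoImplicit false
set_option linter.all false
set_option backward.isDefEq.respectTransparency false
set_option maxHeartbeats 2000000
set_option synthInstance.maxHeartbeats 400000

universe u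

open CategoryTheory CategoryTheory.Limits MonoidalCategory CartesianMonoidalCategory MonObj GrpObj AlgebraicGeometry
open Polynomial
open scoped TensorProduct

noncomputable section

namespace GrothLib.GaModel15

attribute [-instance] Hom.commGroup Hom.commMonoid CommGrpObj.toIsCommMonObj

/-- A function whose restriction to the generic fibre is proportional to a character is multiplicative. -/
theorem multiplicative {R : Type u} [CommRing R] [IsDomain R] {K : Type u} [CommRing K] [Algebra R K]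
    [IsFractionRing R K] (G : Over (Spec (CommRingCat.of R))) [GrpObj G] [IsAffineHom G.hom] [Flat G.hom]
    (x : Red.bc (qK R K) G ⟶ Red.Gm (Spec (CommRingCat.of K))) [IsMonHom x]
    (y : Γ(G.left, ⊤)) (c : K) (num den : R) (hc : c * algebraMap R K den = algebraMap R K num)
    (hy : rK K G y = scl (Red.bc (qK R K) G) c * Red.gmFn x)
    {T : Over (Spec (CommRingCat.of R))} (g h : T ⟶ G) :
    scl T num * (g * h).left.appTop y = scl T den * (g.left.appTop y * h.left.appTop y) := by
  haveI : IsAffine G.left := isAffine_of_isAffineHom G.hom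
  haveI : IsAffine (G ⊗ G).left := inferInstanceAs (IsAffine (pullback G.hom G.hom))
  haveI : Flat (G ⊗ G).hom := inferInstanceAs (Flat (pullback.fst G.hom G.hom ≫ G.hom))
  have hn : ∀ (m : G ⊗ G ⟶ G), rK K (G ⊗ G) (m.left.appTop y) =
      scl (Red.bc (qK R K) (G ⊗ G)) c * Red.gmFn ((Over.pullback (qK R K)).map m ≫ x) := by
    intro m
    have e : ((Over.pullback (qK R K)).map m).left ≫ pullback.fst G.hom (qK R K) =
        pullback.fst (G ⊗ G).hom (qK R K) ≫ m.left := by
      simp [Over.pullback]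
    rw [GmPts.gmFn_comp]
    show (pullback.fst (G ⊗ G).hom (qK R K)).appTop (m.left.appTop y) = _
    rw [← GmPts.appTop_comp_apply, ← e, GmPts.appTop_comp_apply]
    show ((Over.pullback (qK R K)).map m).left.appTop (rK K G y) = _
    rw [hy, map_mul, appTop_scl]
  have huniv : scl (G ⊗ G) num * (fst G G * snd G G).left.appTop y =
      scl (G ⊗ G) den * ((fst G G).left.appTop y * (snd G G).left.appTop y) := by
    apply (rK_facts (K := K) (G ⊗ G)).1
    rw [map_mul, map_mul, map_mul, rK_scl, rK_scl, hn, hn, hn, Functor.map_mul, MonObj.mul_comp, GmPts.gmFn_mul,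
      ← hc, map_mul]
    ring
  have e1 : g * h = lift g h ≫ (fst G G * snd G G) := by
    rw [MonObj.comp_mul, lift_fst, lift_snd]
  have := congrArg (lift g h).left.appTop huniv
  rw [map_mul, map_mul, map_mul, appTop_scl, appTop_scl, ← GmPts.appTop_comp_apply, ← GmPts.appTop_comp_apply,
    ← GmPts.appTop_comp_apply, ← Over.comp_left, ← Over.comp_left, ← Over.comp_left, lift_fst, lift_snd] at this
  rwa [e1]

/-- Points of prime order of a group containing the multiplicative group. -/
theorem exists_point_order {S : Scheme.{u}} (G : Over S) [GrpObj G] {k : Type u} [CommRing k] [Nontrivial k]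
    (q : Spec (CommRingCat.of k) ⟶ S) (j₀ : Red.Gm (Spec (CommRingCat.of k)) ⟶ Red.bc q G) [IsMonHom j₀]
    [IsOpenImmersion j₀.left] {l : ℕ} (hl : l.Prime) {ζ : k} (hζ : IsPrimitiveRoot ζ l) :
    ∃ x : (Over.map q).obj (𝟙_ (Over (Spec (CommRingCat.of k)))) ⟶ G, x ^ l = 1 ∧ x ≠ 1 := by
  let io := Scheme.ΓSpecIso (CommRingCat.of k)
  let ζu : (Γ((𝟙_ (Over (Spec (CommRingCat.of k)))).left, ⊤))ˣ :=
    Units.map io.inv.hom.toMonoidHom (hζ.isUnit hl.ne_zero).unit
  let p : 𝟙_ (Over (Spec (CommRingCat.of k))) ⟶ Red.Gm (Spec (CommRingCat.of k)) := GmPts.ptOfUnit ζu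
  let E := (GrothLib.DiagGrp.bcPointMulEquiv q G (𝟙_ (Over (Spec (CommRingCat.of k))))).symm
  have hpl : p ^ l = 1 := by
    apply (GmPts.equiv _).injective
    rw [map_pow, map_one, GmPts.equiv_apply, GmPts.unitOfPt_ptOfUnit]
    simp only [ζu]
    refine (map_pow (Units.map _) _ l).symm.trans ?_
    rw [show (hζ.isUnit hl.ne_zero).unit ^ l = 1 from Units.ext (by simp [hζ.pow_eq_one]), map_one]
  have hp1 : p ≠ 1 := by
    intro h
    have h2 := congrArg Red.gmFn h
    rw [GmPts.gmFn_ptOfUnit, GmPts.gmFn_one] at h2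
    exact hζ.ne_one hl.one_lt ((ConcreteCategory.bijective_of_isIso io.inv).1 (h2.trans (map_one io.inv.hom).symm))
  have hpow : ∀ n : ℕ, (p ^ n) ≫ j₀ = (p ≫ j₀) ^ n := by
    intro n
    induction n with
    | zero => rw [pow_zero, pow_zero, MonObj.one_comp]
    | succ n ih => rw [pow_succ, pow_succ, MonObj.mul_comp, ih]
  refine ⟨E (p ≫ j₀), ?_, ?_⟩
  · rw [← map_pow, ← hpow, hpl, MonObj.one_comp, map_one]
  · intro h
    haveI : Mono j₀ := Over.mono_of_mono_left j₀
    have h1 : p ≫ j₀ = (1 : 𝟙_ (Over (Spec (CommRingCat.of k))) ⟶ Red.Gm (Spec (CommRingCat.of k))) ≫ j₀ := by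
      rw [MonObj.one_comp]
      exact E.injective (h.trans (map_one E).symm)
    exact hp1 ((cancel_mono j₀).mp h1)

section DVR

variable {R : Type u} [CommRing R] [IsDomain R] [IsDiscreteValuationRing R] {K : Type u} [Field K] [Algebra R K]
  [IsFractionRing R K]

theorem exists_model_unit (G : Over (Spec (CommRingCat.of R))) [GrpObj G]
    [IsAffineHom G.hom] [Flat G.hom] [LocallyOfFiniteType G.hom]
    (e : Red.bc (qK R K) G ≅ Red.Gm (Spec (CommRingCat.of K))) [IsMonHom e.hom] :
    ∃ t : Γ(G.left, ⊤), IsUnit t ∧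
      (∀ (T : Over (Spec (CommRingCat.of R))) (g h : T ⟶ G), (g * h).left.appTop t = g.left.appTop t * h.left.appTop t) ∧
      (∀ T : Over (Spec (CommRingCat.of R)), (1 : T ⟶ G).left.appTop t = 1) ∧
      ((∀ P : R[X], eval₂RingHom (scl G) t P ∈ (IsLocalRing.maximalIdeal R).map (scl G) →
          ∀ i, P.coeff i ∈ IsLocalRing.maximalIdeal R) →
        Function.Injective (eval₂RingHom (scl G) t) ∧
          ∀ a, ∃ (N : ℕ) (P : R[X]), a * t ^ N = eval₂RingHom (scl G) t P) ∧
      (∀ a, ∃ (N : ℕ) (P : R[X]) (b : R), b ≠ 0 ∧ scl G b * (a * t ^ N) = eval₂RingHom (scl G) t P) := by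
  haveI : IsAffine G.left := isAffine_of_isAffineHom G.hom
  set x := e.hom
  let A := Γ(G.left, ⊤)
  let B := Γ((Red.bc (qK R K) G).left, ⊤)
  letI : Algebra R A := (scl G).toAlgebra
  letI : Algebra A B := (rK K G).toAlgebra
  letI : Algebra K B := (scl (Red.bc (qK R K) G)).toAlgebra
  letI : Algebra R B := ((rK K G).comp (scl G)).toAlgebra
  haveI : IsScalarTower R A B := .of_algebraMap_eq' rfl
  haveI : IsScalarTower R K B := .of_algebraMap_eq (rK_scl G)
  haveI : IsNoetherianRing A := by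
    haveI : Algebra.FiniteType R A := finiteType_scl G
    exact Algebra.FiniteType.isNoetherianRing R A
  set v : B := Red.gmFn x
  have hb : Function.Bijective x.left.appTop := ConcreteCategory.bijective_of_isIso _
  have heq : ∀ p : K[X], aeval v p =
      x.left.appTop (eval₂RingHom (scl (Red.Gm (Spec (CommRingCat.of K)))) (Red.gmFn (𝟙 _)) p) := by
    intro p
    rw [coe_eval₂RingHom, hom_eval₂, aeval_def]
    congr 1
    ext c
    exact (appTop_scl x c).symm
  have hvv : x.left.appTop (Red.gmFn (𝟙 _)) = v := (GmPts.gmFn_comp x (𝟙 _)).symm.trans (congrArg Red.gmFn (Category.comp_id x))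
  obtain ⟨hfree₀, hgen₀, -⟩ := gmFn_facts K
  have hfree : Function.Injective (aeval v : K[X] → B) := fun p p' h => hfree₀ (hb.1 (by rw [← heq, ← heq, h]))
  have hgen : ∀ z : B, ∃ (N : ℕ) (P : K[X]), z * v ^ N = aeval v P := by
    intro z
    obtain ⟨z₀, rfl⟩ := hb.2 z
    obtain ⟨N, P, hP⟩ := hgen₀ z₀
    exact ⟨N, P, by rw [heq, ← hP, map_mul, map_pow, hvv]⟩
  haveI : Nontrivial B := hfree.nontrivial
  have hvu : IsUnit v := GmPts.isUnit_gmFn x
  haveI : IsDomain B := by
    haveI : NoZeroDivisors B := ⟨fun {a b} hab => by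
      obtain ⟨N, P, hP⟩ := hgen a
      obtain ⟨M, Q, hQ⟩ := hgen b
      have : P * Q = 0 := hfree (by rw [map_mul, map_zero, ← hP, ← hQ, _root_.mul_mul_mul_comm, hab, zero_mul])
      rcases mul_eq_zero.mp this with h | h
      · left; rw [h, map_zero] at hP; exact (hvu.pow N).mul_left_eq_zero.mp hP
      · right; rw [h, map_zero] at hQ; exact (hvu.pow M).mul_left_eq_zero.mp hQ⟩
    exact NoZeroDivisors.to_isDomain B
  obtain ⟨hinj, hsurj⟩ := rK_facts (K := K) G
  haveI : IsDomain A := Function.Injective.isDomain (f := algebraMap A B) hinj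
  obtain ⟨ev₀, hev₀⟩ := exists_ev G
  obtain ⟨y, c, hc, hy, hym⟩ := exists_multiple_notMem (R := R) (A := A) (K := K) (B := B) hinj
    (fun z => by
      obtain ⟨a, r, hr, h⟩ := hsurj z
      exact ⟨a, r, hr, by rw [IsScalarTower.algebraMap_apply R K B]; exact h⟩)
    v hvu.ne_zero { ev₀ with commutes' := hev₀ }
  obtain ⟨⟨num, den, hden⟩, hcd⟩ := IsLocalization.surj (nonZeroDivisors R) c
  have law₀ := fun {T : Over (Spec (CommRingCat.of R))} (g h : T ⟶ G) =>
    multiplicative G x y c num den hcd hy g h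
  have hy0 : y ≠ 0 := fun h => hym (h ▸ Ideal.zero_mem _)
  have hRA : Function.Injective (scl G) := fun r r' h => by
    have := congrArg ev₀ h
    rwa [hev₀, hev₀] at this
  let io₁ := Scheme.ΓSpecIso (CommRingCat.of R)
  obtain ⟨r₀, hr₀⟩ : ∃ r₀ : R, ∀ T : Over (Spec (CommRingCat.of R)), (1 : T ⟶ G).left.appTop y = scl T r₀ := by
    refine ⟨io₁.hom ((η[G] : 𝟙_ (Over (Spec (CommRingCat.of R))) ⟶ G).left.appTop y), fun T => ?_⟩
    rw [Hom.one_def, Over.comp_left, GmPts.appTop_comp_apply]
    show _ = T.hom.appTop (io₁.inv (io₁.hom _))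
    rw [← CommRingCat.comp_apply io₁.hom, Iso.hom_inv_id, CommRingCat.id_apply]
    rfl
  have hnum : num = den * r₀ := by
    have h := law₀ (𝟙 G) (1 : G ⟶ G)
    rw [_root_.mul_one, hr₀, Over.id_left, Scheme.Hom.id_appTop, CommRingCat.id_apply, mul_left_comm, mul_comm _ y,
      ← map_mul] at h
    exact hRA (mul_left_cancel₀ hy0 h)
  subst hnum
  have hd0 : den ≠ 0 := nonZeroDivisors.ne_zero hden
  have law₁ : scl (G ⊗ G) r₀ * (fst G G * snd G G).left.appTop y = (fst G G).left.appTop y * (snd G G).left.appTop y := by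
    haveI : IsAffine (G ⊗ G).left := inferInstanceAs (IsAffine (pullback G.hom G.hom))
    haveI : Flat (G ⊗ G).hom := inferInstanceAs (Flat (pullback.fst G.hom G.hom ≫ G.hom))
    letI : Algebra R Γ((G ⊗ G).left, ⊤) := (scl (G ⊗ G)).toAlgebra
    haveI : Module.Flat R Γ((G ⊗ G).left, ⊤) := flat_scl (G ⊗ G)
    apply Module.Flat.isSMulRegular_of_nonZeroDivisors (M := Γ((G ⊗ G).left, ⊤)) hden
    show den • _ = den • _
    rw [Algebra.smul_def, Algebra.smul_def]
    have h := law₀ (fst G G) (snd G G)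
    rw [map_mul, _root_.mul_assoc] at h
    exact h
  have law₂ : ∀ (T : Over (Spec (CommRingCat.of R))) (g h : T ⟶ G),
      scl T r₀ * (g * h).left.appTop y = g.left.appTop y * h.left.appTop y := by
    intro T g h
    have e1 : g * h = lift g h ≫ (fst G G * snd G G) := by
      rw [MonObj.comp_mul, lift_fst, lift_snd]
    have := congrArg (lift g h).left.appTop law₁
    rw [map_mul, map_mul, appTop_scl, ← GmPts.appTop_comp_apply, ← GmPts.appTop_comp_apply,
      ← GmPts.appTop_comp_apply, ← Over.comp_left, ← Over.comp_left, ← Over.comp_left, lift_fst, lift_snd] at this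
    rwa [e1]
  let m := IsLocalRing.maximalIdeal R
  have hru : IsUnit r₀ := by
    by_contra hru
    have hmem : r₀ ∈ m := (IsLocalRing.mem_maximalIdeal r₀).mpr hru
    let k := R ⧸ m
    letI : Field k := Ideal.Quotient.field m
    let J : Ideal A := m.map (algebraMap R A)
    let Ab := A ⧸ J
    letI : Algebra k Ab := Ideal.Quotient.algebraQuotientMapQuotient
    let Cc := Ab ⊗[k] Ab
    let σ : R →+* Cc := (algebraMap k Cc).comp (Ideal.Quotient.mk m)
    let fl : A →+* Cc := (Algebra.TensorProduct.includeLeftRingHom).comp (Ideal.Quotient.mk J)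
    let fr : A →+* Cc := ((Algebra.TensorProduct.includeRight : Ab →ₐ[k] Cc).toRingHom).comp (Ideal.Quotient.mk J)
    let T : Over (Spec (CommRingCat.of R)) := Over.mk (Spec.map (CommRingCat.ofHom σ))
    let io := Scheme.ΓSpecIso (CommRingCat.of Cc)
    have hT : ∀ r, scl T r = io.inv (σ r) := fun r =>
      (congr($(Scheme.ΓSpecIso_inv_naturality (CommRingCat.ofHom σ)) r)).symm
    have hio : ∀ z, io.hom (io.inv z) = z := fun z => by
      rw [← CommRingCat.comp_apply, Iso.inv_hom_id, CommRingCat.id_apply]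
    obtain ⟨g, hg⟩ := exists_pt T (io.inv.hom.comp fl) (by
      ext r
      exact (congrArg io.inv (show fl (scl G r) = σ r from rfl)).trans (hT r).symm)
    obtain ⟨h, hh⟩ := exists_pt T (io.inv.hom.comp fr) (by
      ext r
      exact (congrArg io.inv (show fr (scl G r) = σ r from
        (Algebra.TensorProduct.includeRight : Ab →ₐ[k] Cc).commutes (Ideal.Quotient.mk m r))).trans (hT r).symm)
    let s : Ab := Ideal.Quotient.mk J y
    have hs : s ≠ 0 := fun h => hym (Ideal.Quotient.eq_zero_iff_mem.mp h)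
    have h2 := congrArg io.hom (law₂ T g h)
    rw [map_mul, map_mul, hg, hh, hT] at h2
    have h3 : (s ⊗ₜ[k] (1 : Ab)) * ((1 : Ab) ⊗ₜ[k] s) = 0 := by
      refine ((congrArg₂ (· * ·) (hio _).symm (hio _).symm).trans h2.symm).trans ?_
      rw [hio]
      show algebraMap k Cc (Ideal.Quotient.mk m r₀) * _ = 0
      rw [Ideal.Quotient.eq_zero_iff_mem.mpr hmem, map_zero, zero_mul]
    rw [Algebra.TensorProduct.tmul_mul_tmul, _root_.mul_one, _root_.one_mul] at h3
    obtain ⟨f, hf⟩ := LinearMap.exists_extend_of_notMem (K := k) (V' := k) (p := (⊥ : Submodule k Ab)) 0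
      (v := s) (by simpa using hs) (1 : k)
    have := congrArg ((TensorProduct.rid k Ab).toLinearMap ∘ₗ f.lTensor Ab) h3
    simp [hf.2] at this
    exact hs this
  obtain ⟨w, hw⟩ := hru
  let t : A := scl G (↑w⁻¹ : R) * y
  have ht : ∀ (T : Over (Spec (CommRingCat.of R))) (g : T ⟶ G), g.left.appTop t = scl T (↑w⁻¹ : R) * g.left.appTop y := by
    intro T g
    rw [map_mul, appTop_scl]
  have law : ∀ (T : Over (Spec (CommRingCat.of R))) (g h : T ⟶ G),
      (g * h).left.appTop t = g.left.appTop t * h.left.appTop t := by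
    intro T g h
    rw [ht, ht, ht, _root_.mul_mul_mul_comm, ← law₂, ← _root_.mul_assoc, ← map_mul, ← map_mul, _root_.mul_assoc, ← hw, Units.inv_mul,
      _root_.mul_one]
  have hone : ∀ T : Over (Spec (CommRingCat.of R)), (1 : T ⟶ G).left.appTop t = 1 := by
    intro T
    rw [ht, hr₀, ← map_mul, ← hw, Units.inv_mul, map_one]
  have htu : IsUnit t := by
    refine IsUnit.of_mul_eq_one ((𝟙 G : G ⟶ G)⁻¹.left.appTop t) ?_
    have h := law G (𝟙 G) (𝟙 G)⁻¹
    rw [mul_inv_cancel, hone, Over.id_left, Scheme.Hom.id_appTop, CommRingCat.id_apply] at h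
    exact h.symm
  have htB : algebraMap A B t = algebraMap K B (algebraMap R K (↑w⁻¹ : R) * c) * v := by
    show rK K G t = _
    rw [map_mul, rK_scl, map_mul (algebraMap K B), _root_.mul_assoc]
    exact congrArg _ hy
  set c' := algebraMap R K (↑w⁻¹ : R) * c
  have hc' : c' ≠ 0 := mul_ne_zero ((map_ne_zero_iff _ (IsFractionRing.injective R K)).mpr w⁻¹.ne_zero) hc
  have hev : ∀ P : K[X], aeval (algebraMap A B t) P = aeval v (P.comp (C c' * X)) := fun P => by
    rw [aeval_comp, htB]; simp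
  have hgen' : ∀ z : B, ∃ (N : ℕ) (P : K[X]), z * algebraMap A B t ^ N = aeval (algebraMap A B t) P := by
    intro z
    obtain ⟨N, P, hP⟩ := hgen z
    refine ⟨N, C (c' ^ N) * P.comp (C c'⁻¹ * X), ?_⟩
    rw [hev, Polynomial.mul_comp, C_comp, comp_assoc, Polynomial.mul_comp, C_comp, X_comp, ← _root_.mul_assoc (C c'⁻¹), ← C_mul,
      inv_mul_cancel₀ hc', C_1, _root_.one_mul, comp_X]
    rw [htB, aeval_def, eval₂_mul, eval₂_C, ← aeval_def, ← hP, mul_pow, map_pow]
    ring
  have hfree' : Function.Injective (aeval (algebraMap A B t) : K[X] → B) := by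
    intro P P' h
    rw [hev, hev] at h
    have h2 := congrArg (fun Q : K[X] => Q.comp (C c'⁻¹ * X)) (hfree h)
    simp only [comp_assoc, Polynomial.mul_comp, C_comp, X_comp, ← _root_.mul_assoc, ← C_mul, mul_inv_cancel₀ hc', C_1, _root_.one_mul,
      comp_X] at h2
    exact h2
  refine ⟨t, htu, law, hone, fun hmod => ?_, fun a => exists_poly (R := R) (K := K) hinj t hgen' a⟩
  exact laurent_lattice (R := R) (K := K) hinj t htu hgen' hfree' hmod

theorem pts (G : Over (Spec (CommRingCat.of R))) [GrpObj G] [IsAlgClosed (IsLocalRing.ResidueField R)]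
    (j₀ : Red.Gm (Spec (CommRingCat.of (IsLocalRing.ResidueField R))) ⟶
      Red.bc (Spec.map (CommRingCat.ofHom (IsLocalRing.residue R))) G) [IsMonHom j₀] [IsOpenImmersion j₀.left]
    {l : ℕ} (hl : l.Prime) (hlk : (l : IsLocalRing.ResidueField R) ≠ 0) :
    ∃ x : (Over.map (Spec.map (CommRingCat.ofHom (IsLocalRing.residue R)))).obj
        (𝟙_ (Over (Spec (CommRingCat.of (IsLocalRing.ResidueField R))))) ⟶ G, x ^ l = 1 ∧ x ≠ 1 := by
  haveI : NeZero (l : IsLocalRing.ResidueField R) := ⟨hlk⟩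
  obtain ⟨ζ, hζ⟩ := HasEnoughRootsOfUnity.exists_primitiveRoot (IsLocalRing.ResidueField R) l
  exact @exists_point_order _ G _ (IsLocalRing.ResidueField R) _ _ (Spec.map (CommRingCat.ofHom (IsLocalRing.residue R))) j₀ _ _ l hl ζ hζ

theorem exists_iso_Gm [IsAdicComplete (IsLocalRing.maximalIdeal R) R] [IsAlgClosed (IsLocalRing.ResidueField R)]
    (G : Over (Spec (CommRingCat.of R))) [GrpObj G] [Smooth G.hom] [IsAffineHom G.hom]
    (e : Red.bc (qK R K) G ≅ Red.Gm (Spec (CommRingCat.of K))) [IsMonHom e.hom]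
    (j₀ : Red.Gm (Spec (CommRingCat.of (IsLocalRing.ResidueField R))) ⟶
      Red.bc (Spec.map (CommRingCat.ofHom (IsLocalRing.residue R))) G) [IsMonHom j₀] [IsOpenImmersion j₀.left] :
    ∃ e' : G ≅ Red.Gm (Spec (CommRingCat.of R)), IsMonHom e'.hom := by
  haveI : IsAffine G.left := isAffine_of_isAffineHom G.hom
  haveI : LocallyOfFiniteType G.hom := inferInstance
  obtain ⟨t, htu, law, hone, hlat, hpoly⟩ := exists_model_unit G e
  have hpts := fun {l : ℕ} (hl : l.Prime) (hlk : (l : IsLocalRing.ResidueField R) ≠ 0) => pts G j₀ hl hlk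
  set k := IsLocalRing.ResidueField R
  set res := Spec.map (CommRingCat.ofHom (IsLocalRing.residue R))
  let m := IsLocalRing.maximalIdeal R
  let A := Γ(G.left, ⊤)
  letI : Algebra R A := (scl G).toAlgebra
  haveI : Algebra.Smooth R A := by
    have h : G.hom.appTop.hom.Smooth := HasRingHomProperty.appTop @Smooth G.hom ‹_›
    have h2 : (scl G).Smooth := (RingHom.Smooth.of_bijective
      (ConcreteCategory.bijective_of_isIso (Scheme.ΓSpecIso (CommRingCat.of R)).inv)).comp h
    exact h2.toAlgebra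
  haveI : HenselianRing R m := inferInstance
  let J : Ideal A := m.map (algebraMap R A)
  let Ab := A ⧸ J
  letI : Algebra k Ab := Ideal.Quotient.algebraQuotientMapQuotient
  let T₀ := (Over.map res).obj (𝟙_ (Over (Spec (CommRingCat.of k))))
  let io := Scheme.ΓSpecIso (CommRingCat.of k)
  let ioR := Scheme.ΓSpecIso (CommRingCat.of R)
  have hT₀ : ∀ r, scl T₀ r = io.inv (IsLocalRing.residue R r) := fun r => by
    show ((𝟙 (Spec (CommRingCat.of k))) ≫ res).appTop (ioR.inv r) = _
    rw [Category.id_comp]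
    exact (congr($(Scheme.ΓSpecIso_inv_naturality (CommRingCat.ofHom (IsLocalRing.residue R))) r)).symm
  have hio : ∀ z, io.hom (io.inv z) = z := fun z => by
    rw [← CommRingCat.comp_apply, Iso.inv_hom_id, CommRingCat.id_apply]
  have hio' : ∀ z, io.inv (io.hom z) = z := fun z => by
    rw [← CommRingCat.comp_apply, Iso.hom_inv_id, CommRingCat.id_apply]
  have htpow : ∀ (T : Over (Spec (CommRingCat.of R))) (g : T ⟶ G) (n : ℕ), (g ^ n).left.appTop t = g.left.appTop t ^ n := by
    intro T g n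
    induction n with
    | zero => rw [pow_zero, pow_zero, hone]
    | succ n ih => rw [pow_succ, pow_succ, law, ih]
  -- reduction of sections
  have key : ∀ (l : ℕ), (l : k) ≠ 0 → ∀ x : T₀ ⟶ G, x ^ l = 1 → x.left.appTop t = 1 → x = 1 := by
    intro l hl x hxl hxt
    let σ : A →ₐ[R] R ⧸ m :=
      { (io.hom.hom.comp x.left.appTop.hom : A →+* k) with
        commutes' := fun r => by
          show io.hom (x.left.appTop (scl G r)) = IsLocalRing.residue R r
          rw [appTop_scl, hT₀, hio] }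
    obtain ⟨τ, hτ⟩ := Hensel.exists_algHom_lift_of_smooth (R := R) (A := R) (I := m) σ
    obtain ⟨g, hg⟩ := exists_pt (𝟙_ (Over (Spec (CommRingCat.of R)))) (ioR.inv.hom.comp τ.toRingHom) (by
      ext r
      show ioR.inv (τ (scl G r)) = (Scheme.Hom.appTop (𝟙 (Spec (CommRingCat.of R)))) (ioR.inv r)
      rw [Scheme.Hom.id_appTop, CommRingCat.id_apply]
      exact congrArg ioR.inv (τ.commutes r))
    have hval : ∀ z : R, (toUnit T₀).left.appTop (ioR.inv z) = io.inv (IsLocalRing.residue R z) := fun z => by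
      have h1 : scl (𝟙_ (Over (Spec (CommRingCat.of R)))) z = ioR.inv z := by
        show (Scheme.Hom.appTop (𝟙 (Spec (CommRingCat.of R)))) (ioR.inv z) = _
        rw [Scheme.Hom.id_appTop, CommRingCat.id_apply]
      rw [← h1, appTop_scl, hT₀]
    let v : ℕ → A →+* R := fun n => ioR.hom.hom.comp (g ^ n).left.appTop.hom
    have hioR : ∀ z, ioR.inv (ioR.hom z) = z := fun z => by
      rw [← CommRingCat.comp_apply, Iso.hom_inv_id, CommRingCat.id_apply]
    have hvs : ∀ n r, v n (scl G r) = r := fun n r => by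
      show ioR.hom ((g ^ n).left.appTop (scl G r)) = r
      rw [appTop_scl]
      show ioR.hom ((Scheme.Hom.appTop (𝟙 (Spec (CommRingCat.of R)))) (ioR.inv r)) = r
      rw [Scheme.Hom.id_appTop, CommRingCat.id_apply, ← CommRingCat.comp_apply, Iso.inv_hom_id, CommRingCat.id_apply]
    have hgx : toUnit T₀ ≫ g = x := hom_ext_affine fun a => by
      rw [Over.comp_left, GmPts.appTop_comp_apply, hg]
      show (toUnit T₀).left.appTop (ioR.inv (τ a)) = _
      rw [hval]
      have := AlgHom.congr_fun hτ a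
      exact (congrArg io.inv this).trans (hio' _)
    have hpow : ∀ n : ℕ, toUnit T₀ ≫ g ^ n = x ^ n := by
      intro n
      induction n with
      | zero => rw [pow_zero, pow_zero, MonObj.comp_one]
      | succ n ih => rw [pow_succ, pow_succ, MonObj.comp_mul, ih, hgx]
    have hred : ∀ n a, io.inv (IsLocalRing.residue R (v n a)) = (x ^ n).left.appTop a := fun n a => by
      rw [← hpow, Over.comp_left, GmPts.appTop_comp_apply, ← hval]
      exact congrArg _ (hioR _)
    set s := v 1 t with hs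
    have hvt : ∀ n, v n t = s ^ n := fun n => by
      show ioR.hom ((g ^ n).left.appTop t) = (ioR.hom ((g ^ 1).left.appTop t)) ^ n
      rw [htpow, htpow, pow_one, map_pow]
    have hsu : IsUnit s := htu.map (v 1)
    have hs1 : ∀ j : ℕ, s ^ j - 1 ∈ m := fun j => by
      rw [← Ideal.Quotient.eq_zero_iff_mem, map_sub, map_pow, map_one]
      have h1 : IsLocalRing.residue R s = 1 := by
        have h := congrArg io.hom (hred 1 t)
        rwa [hio, pow_one, hxt, map_one] at h
      show IsLocalRing.residue R s ^ j - 1 = 0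
      rw [h1, one_pow, sub_self]
    refine hom_ext_affine fun a => ?_
    set a' := a - scl G (v 0 a)
    obtain ⟨N, P, b, hb, hP⟩ := hpoly a'
    have hP' : ∀ n, b * (v n a' * (s ^ n) ^ N) = P.eval (s ^ n) := fun n => by
      have h := congrArg (v n) hP
      rw [map_mul, map_mul, map_pow, hvs, hvt, coe_eval₂RingHom, hom_eval₂, hvt] at h
      rw [h]
      show _ = eval₂ (RingHom.id R) _ _
      congr 1
      exact RingHom.ext (hvs n)
    obtain ⟨ϖ, hϖ⟩ := IsDiscreteValuationRing.exists_irreducible R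
    obtain ⟨M, u, hbu⟩ := IsDiscreteValuationRing.eq_unit_mul_pow_irreducible hb hϖ
    have hsM : ∀ j : ℕ, (s ^ j - 1) ^ (M + 1) ∈ Ideal.span {b} * m := fun j => by
      have h := Ideal.pow_mem_pow (hs1 j) (M + 1)
      rw [pow_succ] at h
      refine Ideal.mul_mono_left ?_ h
      show m ^ M ≤ Ideal.span {b}
      rw [show m = Ideal.span {ϖ} from hϖ.maximalIdeal_eq, Ideal.span_singleton_pow, Ideal.span_singleton_le_span_singleton, hbu]
      exact (Units.mul_left_dvd).mpr dvd_rfl
    have hlu : IsUnit (l : R) := by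
      by_contra h
      apply hl
      rw [← map_natCast (IsLocalRing.residue R)]
      exact (IsLocalRing.residue_eq_zero_iff _).mpr ((IsLocalRing.mem_maximalIdeal _).mpr h)
    have hmem := eval_mem_of_forall_pow hlu hsM P fun i => by
      rw [← hP' (l * i)]
      refine Ideal.mul_mem_mul (Ideal.mem_span_singleton_self b) (Ideal.mul_mem_right _ _ ?_)
      rw [← IsLocalRing.residue_eq_zero_iff, map_sub, hvs, map_sub, sub_eq_zero]
      apply (ConcreteCategory.bijective_of_isIso io.inv).1
      rw [hred, hred, pow_mul, hxl, one_pow, pow_zero]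
    have h1 : P.eval s = b * (v 1 a' * s ^ N) := by
      have := hP' 1; rw [pow_one] at this; exact this.symm
    rw [h1, Ideal.mem_span_singleton_mul] at hmem
    obtain ⟨z, hz, hze⟩ := hmem
    rw [mul_left_cancel₀ hb hze] at hz
    have h2 : v 1 a' ∈ m := (Ideal.mul_unit_mem_iff_mem m (hsu.pow N)).mp hz
    rw [← IsLocalRing.residue_eq_zero_iff, map_sub, hvs, map_sub, sub_eq_zero] at h2
    have := congrArg io.inv h2
    rw [hred, hred, pow_one, pow_zero] at this
    exact this
  have hinj : Function.Injective (aeval (Ideal.Quotient.mk J t) : k[X] → Ab) := by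
    refine aeval_injective_of_roots _ fun l hl hlk => ?_
    obtain ⟨x, hxl, hx1⟩ := hpts hl hlk
    let χ₀ : A →+* k := io.hom.hom.comp x.left.appTop.hom
    have hχs : ∀ r, χ₀ (scl G r) = IsLocalRing.residue R r := fun r => by
      show io.hom (x.left.appTop (scl G r)) = _
      rw [appTop_scl, hT₀, hio]
    let χ₁ : Ab →+* k := Ideal.Quotient.lift J χ₀ fun a ha => by
      refine (Ideal.map_le_iff_le_comap (K := RingHom.ker χ₀)).mpr (fun r hr => ?_) ha
      rw [Ideal.mem_comap, RingHom.mem_ker]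
      exact (hχs r).trans ((IsLocalRing.residue_eq_zero_iff _).mpr hr)
    refine ⟨{ χ₁ with commutes' := fun c => ?_ }, ?_, ?_⟩
    · obtain ⟨r, rfl⟩ := Ideal.Quotient.mk_surjective c
      exact hχs r
    · show (io.hom (x.left.appTop t)) ^ l = 1
      rw [← map_pow, ← htpow, hxl, hone, map_one]
    · intro h
      refine hx1 (key l hlk x hxl ?_)
      have h' : io.hom (x.left.appTop t) = 1 := h
      have := congrArg io.inv h'
      rwa [hio', map_one] at this
  obtain ⟨hinjA, hsurjA⟩ := hlat fun P hP i => by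
    rw [← IsLocalRing.residue_eq_zero_iff]
    have : aeval (Ideal.Quotient.mk J t) (P.map (IsLocalRing.residue R)) = 0 := by
      rw [aeval_def, eval₂_map]
      rw [← Ideal.Quotient.eq_zero_iff_mem, coe_eval₂RingHom, hom_eval₂] at hP
      exact hP
    have h0 := hinj (a₁ := P.map (IsLocalRing.residue R)) (a₂ := 0) (by rw [this, map_zero])
    have := congrArg (fun p : k[X] => p.coeff i) h0
    simpa only [coeff_map, coeff_zero] using this
  -- the inverse
  set Γm := Red.Gm (Spec (CommRingCat.of R))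
  let φ : G ⟶ Γm := GmPts.ptOfUnit htu.unit
  have hφ : Red.gmFn φ = t := by rw [GmPts.gmFn_ptOfUnit, IsUnit.unit_spec]
  letI : Algebra R[X] A := (eval₂RingHom (scl G) t).toAlgebra
  haveI : IsLocalization (Submonoid.powers (X : R[X])) A := (isLocalization_iff _ _).mpr ⟨by
      rintro ⟨_, n, rfl⟩
      show IsUnit (eval₂RingHom (scl G) t (X ^ n))
      rw [map_pow, coe_eval₂RingHom, eval₂_X]
      exact htu.pow n,
    fun a => by
      obtain ⟨N, P, hP⟩ := hsurjA a
      refine ⟨⟨P, ⟨_, N, rfl⟩⟩, ?_⟩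
      show a * eval₂RingHom (scl G) t (X ^ N) = _
      rw [map_pow, coe_eval₂RingHom, eval₂_X]
      exact hP,
    fun {p q} h => ⟨1, by rw [hinjA h]⟩⟩
  let ψ := eval₂RingHom (scl Γm) (Red.gmFn (𝟙 Γm))
  have hψX : IsUnit (ψ X) := by
    rw [coe_eval₂RingHom, eval₂_X]; exact GmPts.isUnit_gmFn _
  let ψA : A →+* Γ(Γm.left, ⊤) := IsLocalization.Away.lift (X : R[X]) hψX
  have hψA : ∀ p, ψA (eval₂RingHom (scl G) t p) = ψ p := fun p => IsLocalization.Away.lift_eq _ hψX p
  obtain ⟨w, hw⟩ := exists_pt Γm ψA (by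
    ext r
    have := hψA (C r)
    rw [coe_eval₂RingHom, eval₂_C, coe_eval₂RingHom, eval₂_C] at this
    exact this)
  have hwφ : w ≫ φ = 𝟙 Γm := GmPts.gmFn_injective (by
    show Red.gmFn (w ≫ φ) = Red.gmFn (𝟙 Γm)
    rw [GmPts.gmFn_comp, hφ, hw]
    have := hψA X
    rw [coe_eval₂RingHom, eval₂_X, coe_eval₂RingHom, eval₂_X] at this
    exact this)
  have hφw : φ ≫ w = 𝟙 G := hom_ext_affine fun a => by
    obtain ⟨N, P, hP⟩ := hsurjA a
    apply (htu.pow N).mul_left_injective
    show (φ ≫ w).left.appTop a * t ^ N = (𝟙 G : G ⟶ G).left.appTop a * t ^ N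
    have h2 : ∀ p, (φ ≫ w).left.appTop (eval₂RingHom (scl G) t p) = eval₂RingHom (scl G) t p := fun p => by
      rw [Over.comp_left, GmPts.appTop_comp_apply, hw, hψA, coe_eval₂RingHom, coe_eval₂RingHom, hom_eval₂]
      congr 1
      · ext r; exact appTop_scl φ r
    have h3 := h2 X
    rw [coe_eval₂RingHom, eval₂_X] at h3
    rw [Over.id_left, Scheme.Hom.id_appTop, CommRingCat.id_apply]
    conv_lhs => rw [← h3, ← map_pow, ← map_mul, hP, h2]
    exact hP.symm
  refine ⟨⟨φ, w, hφw, hwφ⟩, ⟨?_, ?_⟩⟩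
  · show η[G] ≫ φ = η[Γm]
    have h1 : η[Γm] = (1 : 𝟙_ (Over (Spec (CommRingCat.of R))) ⟶ Γm) := by
      rw [Hom.one_def]; simp
    have h2 : η[G] = (1 : 𝟙_ (Over (Spec (CommRingCat.of R))) ⟶ G) := by
      rw [Hom.one_def]; simp
    rw [h1, h2]
    refine GmPts.gmFn_injective ?_
    show Red.gmFn _ = Red.gmFn _
    rw [GmPts.gmFn_one, GmPts.gmFn_comp, hφ, hone]
  · show μ[G] ≫ φ = (φ ⊗ₘ φ) ≫ μ[Γm]
    have h1 : μ[G] = fst G G * snd G G := by
      rw [Hom.mul_def, lift_fst_snd, Category.id_comp]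
    have h2 : (φ ⊗ₘ φ) ≫ μ[Γm] = (fst G G ≫ φ) * (snd G G ≫ φ) := by
      rw [Hom.mul_def]; congr 1
    rw [h1, h2]
    refine GmPts.gmFn_injective ?_
    show Red.gmFn _ = Red.gmFn _
    rw [GmPts.gmFn_mul, GmPts.gmFn_comp, GmPts.gmFn_comp, GmPts.gmFn_comp, hφ, law]

omit [IsDomain R] [IsDiscreteValuationRing R] in
theorem connectedSpace_bc_Gm {G : Over (Spec (CommRingCat.of R))} (e' : G ≅ Red.Gm (Spec (CommRingCat.of R)))
    {k : Type u} [Field k] (q : Spec (CommRingCat.of k) ⟶ Spec (CommRingCat.of R)) :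
    ConnectedSpace (Red.bc q G).left := by
  haveI := (gmFn_facts k).2.2 inferInstance
  let i1 : (Red.bc q G).left ≅ (Red.bc q (Red.Gm (Spec (CommRingCat.of R)))).left :=
    (Over.forget _).mapIso ((Over.pullback q).mapIso e')
  let i2 : (Red.bc q (Red.Gm (Spec (CommRingCat.of R)))).left ≅ (Red.Gm (Spec (CommRingCat.of k))).left :=
    pullbackLeftPullbackSndIso _ _ q ≪≫
      pullback.congrHom rfl (specULiftZIsTerminal.hom_ext _ _)
  exact (i1 ≪≫ i2).inv.surjective.connectedSpace (i1 ≪≫ i2).inv.continuous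

end DVR

end GrothLib.GaModel15
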