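import Groth.Agent.Lib.GaModel15.Algebra
import Groth.Agent.Lib.RedPts.Ga

/-!
# Points of affine schemes, and the coordinate ring of the additive group
-/

set_option autoImplicit false
set_option linter.all false
set_option backward.isDefEq.respectTransparency false
set_option maxHeartbeats 1000000

universe u

open CategoryTheory CategoryTheory.Limits MonoidalCategory CartesianMonoidalCategory MonObj GrpObj AlgebraicGeometry
open Polynomial

noncomputable section

namespace GrothLib.GaModel15

attribute [-instance] Hom.commGroup Hom.commMonoid CommGrpObj.toIsCommMonObj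

variable {R : Type u} [CommRing R]

/-- The scalars in the global functions of a scheme over `Spec R`. -/
def scl (W : Over (Spec (CommRingCat.of R))) : R →+* Γ(W.left, ⊤) :=
  ((Scheme.ΓSpecIso (CommRingCat.of R)).inv ≫ W.hom.appTop).hom

theorem appTop_scl {W W' : Over (Spec (CommRingCat.of R))} (g : W' ⟶ W) (r : R) :
    g.left.appTop (scl W r) = scl W' r := by
  simp only [scl, CommRingCat.hom_comp, RingHom.comp_apply]
  rw [← GmPts.appTop_comp_apply, Over.w g]

/-- Functions on a point. -/
theorem hom_ext_affine {W T : Over (Spec (CommRingCat.of R))} [IsAffine W.left] {g h : T ⟶ W}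
    (e : ∀ a, g.left.appTop a = h.left.appTop a) : g = h :=
  Over.OverMorphism.ext (ext_of_isAffine (CommRingCat.hom_ext (RingHom.ext e)))

/-- A point of an affine scheme from a ring map. -/
theorem exists_pt {W : Over (Spec (CommRingCat.of R))} [IsAffine W.left] (T : Over (Spec (CommRingCat.of R)))
    (f : Γ(W.left, ⊤) →+* Γ(T.left, ⊤)) (hf : f.comp (scl W) = scl T) :
    ∃ g : T ⟶ W, ∀ a, g.left.appTop a = f a := by
  let l : T.left ⟶ W.left := T.left.toSpecΓ ≫ Spec.map (CommRingCat.ofHom f) ≫ W.left.isoSpec.inv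
  have hl : l.appTop = CommRingCat.ofHom f := by
    have h1 : W.left.isoSpec.inv.appTop = (Scheme.ΓSpecIso Γ(W.left, ⊤)).inv := by
      have h := congrArg Scheme.Hom.appTop W.left.isoSpec.hom_inv_id
      rw [Scheme.Hom.comp_appTop, Scheme.Hom.id_appTop, Scheme.isoSpec_hom, Scheme.toSpecΓ_appTop] at h
      rw [← cancel_mono (Scheme.ΓSpecIso Γ(W.left, ⊤)).hom, Iso.inv_hom_id]
      exact h
    simp only [l, Scheme.Hom.comp_appTop, h1, Category.assoc, Scheme.toSpecΓ_appTop]
    rw [← Category.assoc, ← Scheme.ΓSpecIso_inv_naturality, Category.assoc, Iso.inv_hom_id, Category.comp_id]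
  refine ⟨Over.homMk l (ext_of_isAffine ?_), fun a => by
    show l.appTop a = f a
    rw [hl]; rfl⟩
  rw [← cancel_epi (Scheme.ΓSpecIso (CommRingCat.of R)).inv, Scheme.Hom.comp_appTop, hl]
  apply CommRingCat.hom_ext
  exact hf

variable (R) in
/-- The coordinate ring of the additive group is the polynomial ring in its coordinate. -/
theorem gaFn_eval_bijective :
    Function.Bijective (eval₂RingHom (scl (Red.Ga (Spec (CommRingCat.of R))))
      (Red.gaFn (𝟙 (Red.Ga (Spec (CommRingCat.of R)))))) := by
  set Γa := Red.Ga (Spec (CommRingCat.of R)) with hΓa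
  let io := Scheme.ΓSpecIso (CommRingCat.of R[X])
  let P₀ : Over (Spec (CommRingCat.of R)) := Over.mk (Spec.map (CommRingCat.ofHom (C : R →+* R[X])))
  haveI : IsAffine P₀.left := inferInstanceAs (IsAffine (Spec (CommRingCat.of R[X])))
  have hs : ∀ r, scl P₀ r = io.inv (C r) := fun r =>
    (congrArg (fun ψ => (ConcreteCategory.hom ψ) r) (Scheme.ΓSpecIso_inv_naturality (CommRingCat.ofHom (C : R →+* R[X])))).symm
  let ψ := eval₂RingHom (scl Γa) (Red.gaFn (𝟙 Γa))
  have hio : ∀ p : R[X], io.hom (io.inv p) = p := fun p => by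
    rw [← CommRingCat.comp_apply, Iso.inv_hom_id, CommRingCat.id_apply]
  have hio' : ∀ z, io.inv (io.hom z) = z := fun z => by
    rw [← CommRingCat.comp_apply, Iso.hom_inv_id, CommRingCat.id_apply]
  obtain ⟨u, hu⟩ := exists_pt (W := P₀) Γa (ψ.comp io.hom.hom) (by
    ext r
    simp only [RingHom.comp_apply, hs]
    erw [hio]
    exact eval₂_C _ _)
  let v : P₀ ⟶ Γa := RedPts.gaPt (io.inv (X : R[X]))
  have huv : u ≫ v = 𝟙 Γa := RedPts.gaFn_injective (by
    rw [RedPts.gaFn_comp, RedPts.gaFn_gaPt]
    refine (hu _).trans ?_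
    simp only [RingHom.comp_apply]
    erw [hio]
    exact eval₂_X _ _)
  have hv : ∀ p : R[X], v.left.appTop (ψ p) = io.inv p := by
    have e : v.left.appTop.hom.comp ψ = io.inv.hom := by
      apply Polynomial.ringHom_ext
      · intro r
        simp only [RingHom.comp_apply, ψ, coe_eval₂RingHom, eval₂_C]
        rw [appTop_scl, hs]
        rfl
      · simp only [RingHom.comp_apply, ψ, coe_eval₂RingHom, eval₂_X]
        rw [← RedPts.gaFn_comp, Category.comp_id, RedPts.gaFn_gaPt]
        rfl
    exact fun p => congr($e p)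
  constructor
  · intro a b h
    have := congrArg (fun z => io.hom (v.left.appTop z)) h
    change io.hom (v.left.appTop (ψ a)) = io.hom (v.left.appTop (ψ b)) at this
    rwa [hv, hv, hio, hio] at this
  · intro z
    refine ⟨io.hom (v.left.appTop z), ?_⟩
    have := hu (v.left.appTop z)
    rw [← GmPts.appTop_comp_apply, ← Over.comp_left, huv, Over.id_left, Scheme.Hom.id_appTop, CommRingCat.id_apply] at this
    exact this.symm

end GrothLib.GaModel15
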